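import Cfsg.Agent.Lib.KnownSimple.GLBasics
import Cfsg.Agent.Lib.Classical.SpinorCriterion
import Cfsg.Agent.Lib.Classical.QuadPOmega
import Cfsg.Agent.Lib.Classical.QuadDisc
import Cfsg.Agent.Lib.Classical.OmegaOdd

/-!
Elements of odd orthogonal groups from isometries of quadratic spaces.
-/

set_option autoImplicit false
set_option linter.style.haveILetI false

namespace CfsgLib.Spectra

open Matrix QuadraticMap CfsgLib.Classical

variable {F : Type*} [Field F]

/-- Isometries of two spaces acting on the orthogonal sum. -/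
def qAutProd {V W : Type*} [AddCommGroup V] [Module F V] [AddCommGroup W] [Module F W] (Q : QuadraticForm F V)
    (R : QuadraticForm F W) : qAut Q × qAut R →* qAut (Q.prod R) where
  toFun g := ⟨g.1.1.prodCongr g.2.1, fun v => by
    show Q.prod R (g.1.1 v.1, g.2.1 v.2) = Q.prod R v
    rw [QuadraticMap.prod_apply, QuadraticMap.prod_apply, qAut_map, qAut_map]⟩
  map_one' := qAut_ext fun _ => rfl
  map_mul' _ _ := qAut_ext fun _ => rfl

theorem qAutProd_injective {V W : Type*} [AddCommGroup V] [Module F V] [AddCommGroup W] [Module F W]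
    (Q : QuadraticForm F V) (R : QuadraticForm F W) : Function.Injective (qAutProd Q R) := by
  intro g h hgh
  refine Prod.ext (qAut_ext fun v => ?_) (qAut_ext fun w => ?_)
  · exact congrArg (fun x : qAut (Q.prod R) => (x.1 (v, 0)).1) hgh
  · exact congrArg (fun x : qAut (Q.prod R) => (x.1 (0, w)).2) hgh

theorem polarNondeg_prod {V W : Type*} [AddCommGroup V] [Module F V] [AddCommGroup W] [Module F W]
    {Q : QuadraticForm F V} {R : QuadraticForm F W} (hQ : PolarNondeg Q) (hR : PolarNondeg R) :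
    PolarNondeg (Q.prod R) := by
  intro v hv
  refine Prod.ext (hQ v.1 fun w => ?_) (hR v.2 fun w => ?_)
  · simpa [QuadraticMap.polar] using hv (w, 0)
  · simpa [QuadraticMap.polar] using hv (0, w)

theorem orderOf_qAutProd {V W : Type*} [AddCommGroup V] [Module F V] [AddCommGroup W] [Module F W]
    (Q : QuadraticForm F V) (R : QuadraticForm F W) (g : qAut Q) (h : qAut R) :
    orderOf (qAutProd Q R (g, h)) = (orderOf g).lcm (orderOf h) := by
  rw [orderOf_injective _ (qAutProd_injective Q R), Prod.orderOf]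

/-- A quadratic space with an isometry of given order. -/
def HasIso (F : Type*) [Field F] (d m : ℕ) : Prop :=
  ∃ (Q : QuadraticForm F (Fin d → F)), PolarNondeg Q ∧ ∃ g : qAut Q, orderOf g = m

theorem hasIso_of {V : Type*} [AddCommGroup V] [Module F V] [FiniteDimensional F V] (Q : QuadraticForm F V)
    (hQ : PolarNondeg Q) {d m : ℕ} (hd : Module.finrank F V = d) (g : qAut Q) (hg : orderOf g = m) :
    HasIso F d m := by
  subst hd
  let f : V ≃ₗ[F] (Fin (Module.finrank F V) → F) := (Module.finBasis F V).equivFun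
  let Q' : QuadraticForm F (Fin (Module.finrank F V) → F) := Q.comp f.symm.toLinearMap
  have hf : ∀ v, Q' (f v) = Q v := fun v => by simp [Q']
  exact ⟨Q', polarNondeg_congr f hf hQ, qAutCongr f hf g, (MulEquiv.orderOf_eq _ g).trans hg⟩

theorem HasIso.add {d e a b : ℕ} (h1 : HasIso F d a) (h2 : HasIso F e b) : HasIso F (d + e) (a.lcm b) := by
  obtain ⟨Q, hQ, g, hg⟩ := h1
  obtain ⟨R, hR, h, hh⟩ := h2
  exact hasIso_of (Q.prod R) (polarNondeg_prod hQ hR) (by rw [Module.finrank_prod, Module.finrank_fin_fun, Module.finrank_fin_fun])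
    (qAutProd Q R (g, h)) (by rw [orderOf_qAutProd, hg, hh])

theorem hasIso_plus (j : ℕ) : HasIso F (2 * j) 1 :=
  hasIso_of (qPlus j F) (polarNondeg_qPlus j) (by simp [Module.finrank_fintype_fun_eq_card]; ring) 1 orderOf_one

theorem hasIso_line (h2 : (2 : F) ≠ 0) : HasIso F 1 1 :=
  hasIso_of (qLine F) (polarNondeg_qLine h2) (by simp [Module.finrank_fintype_fun_eq_card]) 1 orderOf_one

variable [Fintype F]

/-- The anisotropic torus: an isometry of order `q ^ η + 1` in dimension `2 η`. -/
theorem hasIso_minus (h2 : (2 : F) ≠ 0) {η : ℕ} (hη : 1 ≤ η) : HasIso F (2 * η) (Fintype.card F ^ η + 1) := by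
  obtain ⟨L, _, _, _, -, hfr, hcard, -, -⟩ :=
    CfsgLib.KnownSimple.exists_extension_matrix (F := F) (2 * η) (by omega)
  haveI : FiniteDimensional F L := Module.Finite.of_finite
  haveI : Algebra.IsSeparable F L := Algebra.IsAlgebraic.isSeparable_of_perfectField
  set q := Fintype.card F with hq
  have hq2 : 2 ≤ q := Fintype.one_lt_card
  let σ : L →ₐ[F] L := (FiniteField.frobeniusAlgHom F L) ^ η
  have hσ : ∀ x : L, σ x = x ^ q ^ η := fun x => by
    show ((FiniteField.frobeniusAlgHom F L) ^ η) x = _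
    rw [AlgHom.coe_pow, FiniteField.coe_frobeniusAlgHom, pow_iterate]
  have hσσ : ∀ x, σ (σ x) = x := fun x => by
    rw [hσ, hσ, ← pow_mul, ← pow_add, ← two_mul, hq, ← hcard, FiniteField.pow_card]
  let σe : L ≃ₐ[F] L := AlgEquiv.ofBijective σ ⟨σ.toRingHom.injective, fun x => ⟨σ x, hσσ x⟩⟩
  have htr : ∀ x, Algebra.trace F L (σ x) = Algebra.trace F L x := fun x => Algebra.trace_eq_of_algEquiv σe x
  let B : LinearMap.BilinMap F L F := LinearMap.mk₂ F (fun x y => Algebra.trace F L (x * σ y))
    (fun x y z => by rw [add_mul, map_add]) (fun c x y => by rw [smul_mul_assoc, map_smul])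
    (fun x y z => by rw [map_add, mul_add, map_add]) (fun c x y => by rw [map_smul, mul_smul_comm, map_smul])
  let Q : QuadraticForm F L := B.toQuadraticMap
  have hsym : ∀ x y, Algebra.trace F L (y * σ x) = Algebra.trace F L (x * σ y) := fun x y => by
    rw [← htr (y * σ x), map_mul, hσσ, mul_comm]
  have hQ : PolarNondeg Q := by
    intro v hv
    refine traceForm_nondegenerate F L |>.1 v fun w => ?_
    rw [Algebra.traceForm_apply, ← hσσ w]
    have h := hv (σ w)
    rw [LinearMap.BilinMap.polar_toQuadraticMap] at h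
    change Algebra.trace F L (v * σ (σ w)) + Algebra.trace F L (σ w * σ v) = 0 at h
    rw [hsym v (σ w), ← two_mul] at h
    exact (mul_eq_zero.1 h).resolve_left h2
  obtain ⟨u, hu⟩ := IsCyclic.exists_ofOrder_eq_natCard (α := Lˣ)
  rw [Nat.card_units, Nat.card_eq_fintype_card, hcard] at hu
  have hfac : q ^ (2 * η) - 1 = (q ^ η + 1) * (q ^ η - 1) := by
    rw [← Nat.sq_sub_sq, one_pow, ← pow_mul, mul_comm]
  have h1 : 1 < q ^ η := Nat.one_lt_pow (by omega) (by omega)
  have hz : orderOf (u ^ (q ^ η - 1)) = q ^ η + 1 := by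
    rw [orderOf_pow_of_dvd (by omega) (by rw [hu, hfac]; exact dvd_mul_left _ _), hu, hfac,
      Nat.mul_div_cancel _ (by omega)]
  set z := u ^ (q ^ η - 1) with hzdef
  have hzn : (z : L) * σ (z : L) = 1 := by
    rw [hσ, ← pow_succ', ← hz, ← Units.val_pow_eq_pow_val, pow_orderOf_eq_one, Units.val_one]
  let T : Subgroup.zpowers z →* qAut Q :=
    { toFun := fun a => ⟨LinearEquiv.ofBijective (LinearMap.mulLeft F ((a.1 : Lˣ) : L))
        ⟨fun x y h => mul_left_cancel₀ (Units.ne_zero _) h, fun y => ⟨((a.1⁻¹ : Lˣ) : L) * y, by simp⟩⟩, fun v => by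
          obtain ⟨w, j, rfl⟩ := a
          show Algebra.trace F L (((z ^ j : Lˣ) : L) * v * σ (((z ^ j : Lˣ) : L) * v)) = Algebra.trace F L (v * σ v)
          congr 1
          have hj : ((z ^ j : Lˣ) : L) * σ ((z ^ j : Lˣ) : L) = 1 := by
            rw [Units.val_zpow_eq_zpow_val, map_zpow₀, ← mul_zpow, hzn, _root_.one_zpow]
          rw [map_mul, mul_mul_mul_comm, hj, one_mul]⟩
      map_one' := qAut_ext fun v => by
        show ((1 : Lˣ) : L) * v = v
        rw [Units.val_one, one_mul]
      map_mul' := fun a b => qAut_ext fun v => by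
        show ((a.1 * b.1 : Lˣ) : L) * v = (a.1 : L) * ((b.1 : L) * v)
        rw [Units.val_mul, mul_assoc] }
  have hT : Function.Injective T := fun a b h => by
    have := congrArg (fun x : qAut Q => x.1 (1 : L)) h
    exact Subtype.ext (Units.ext ((mul_one _).symm.trans (this.trans (mul_one _))))
  refine hasIso_of Q hQ hfr (T ⟨z, Subgroup.mem_zpowers z⟩) ?_
  rw [orderOf_injective T hT, Subgroup.orderOf_mk, hz]

/-- The split torus: an isometry of order `q ^ η - 1` in dimension `2 η`. -/
theorem hasIso_split {η : ℕ} (hη : 1 ≤ η) : HasIso F (2 * η) (Fintype.card F ^ η - 1) := by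
  obtain ⟨L, _, _, _, -, hfr, hcard, -, -⟩ := CfsgLib.KnownSimple.exists_extension_matrix (F := F) η hη
  haveI : FiniteDimensional F L := Module.Finite.of_finite
  haveI : Algebra.IsSeparable F L := Algebra.IsAlgebraic.isSeparable_of_perfectField
  let B : LinearMap.BilinMap F (L × L) F := LinearMap.mk₂ F (fun x y => Algebra.trace F L (x.1 * y.2))
    (fun x y z => by rw [Prod.fst_add, add_mul, map_add]) (fun c x y => by rw [Prod.smul_fst, smul_mul_assoc, map_smul])
    (fun x y z => by rw [Prod.snd_add, mul_add, map_add]) (fun c x y => by rw [Prod.smul_snd, mul_smul_comm, map_smul])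
  let Q : QuadraticForm F (L × L) := B.toQuadraticMap
  have hQ : PolarNondeg Q := by
    intro v hv
    refine Prod.ext (traceForm_nondegenerate F L |>.1 v.1 fun w => ?_) (traceForm_nondegenerate F L |>.1 v.2 fun w => ?_)
    · have h := hv (0, w)
      rw [LinearMap.BilinMap.polar_toQuadraticMap] at h
      rw [Algebra.traceForm_apply]
      simpa [B] using h
    · have h := hv (w, 0)
      rw [LinearMap.BilinMap.polar_toQuadraticMap] at h
      rw [Algebra.traceForm_apply, mul_comm]
      simpa [B] using h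
  obtain ⟨u, hu⟩ := IsCyclic.exists_ofOrder_eq_natCard (α := Lˣ)
  rw [Nat.card_units, Nat.card_eq_fintype_card, hcard] at hu
  let T : Lˣ →* qAut Q :=
    { toFun := fun a => ⟨(LinearEquiv.ofBijective (LinearMap.mulLeft F (a : L))
        ⟨fun x y h => mul_left_cancel₀ (Units.ne_zero _) h, fun y => ⟨((a⁻¹ : Lˣ) : L) * y, by simp⟩⟩).prodCongr
        (LinearEquiv.ofBijective (LinearMap.mulLeft F ((a⁻¹ : Lˣ) : L))
        ⟨fun x y h => mul_left_cancel₀ (Units.ne_zero _) h, fun y => ⟨(a : L) * y, by simp⟩⟩), fun v => by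
          show Algebra.trace F L ((a : L) * v.1 * (((a⁻¹ : Lˣ) : L) * v.2)) = Algebra.trace F L (v.1 * v.2)
          rw [mul_mul_mul_comm, Units.mul_inv, one_mul]⟩
      map_one' := qAut_ext fun v => by
        show (((1 : Lˣ) : L) * v.1, ((1⁻¹ : Lˣ) : L) * v.2) = v
        simp
      map_mul' := fun a b => qAut_ext fun v => by
        show (((a * b : Lˣ) : L) * v.1, (((a * b)⁻¹ : Lˣ) : L) * v.2) =
          ((a : L) * ((b : L) * v.1), ((a⁻¹ : Lˣ) : L) * (((b⁻¹ : Lˣ) : L) * v.2))
        simp [mul_assoc, mul_comm, mul_left_comm] }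
  have hT : Function.Injective T := fun a b h => by
    have h1 := congrArg (fun x : qAut Q => (x.1 ((1 : L), (0 : L))).1) h
    exact Units.ext ((mul_one _).symm.trans (h1.trans (mul_one _)))
  refine hasIso_of Q hQ (by rw [Module.finrank_prod, hfr, two_mul]) (T u) ?_
  rw [orderOf_injective T hT, hu]

/-- A unipotent isometry in dimension three. -/
theorem hasIso_unipotent {p : ℕ} [Fact p.Prime] [CharP F p] (hp : p ≠ 2) : HasIso F 3 p := by
  have h2 : (2 : F) ≠ 0 := fun h => hp ((Nat.prime_dvd_prime_iff_eq Fact.out Nat.prime_two).1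
    ((CharP.cast_eq_zero_iff F p 2).1 (by exact_mod_cast h)))
  let Q : QuadraticForm F (F × (F × F)) := (QuadraticMap.sq (R := F)).prod (hyp2 F)
  have hsq : PolarNondeg (QuadraticMap.sq (R := F)) := fun v hv => by
    have h := hv 1
    simp [QuadraticMap.polar] at h
    have h' : (2 : F) * v = 0 := by linear_combination h
    exact (mul_eq_zero.1 h').resolve_left h2
  have hh : PolarNondeg (hyp2 F) := fun v hv => by
    have h1 := hv (0, 1); have h3 := hv (1, 0)
    rw [polar_hyp2] at h1 h3
    exact Prod.ext (by simpa using h1) (by simpa using h3)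
  have hQ : PolarNondeg Q := polarNondeg_prod hsq hh
  let f : F → ((F × (F × F)) →ₗ[F] (F × (F × F))) := fun t =>
    { toFun := fun v => (v.1 + t * v.2.1, v.2.1, v.2.2 - 2 * t * v.1 - t * t * v.2.1)
      map_add' := fun v w => by
        simp only [Prod.fst_add, Prod.snd_add]
        refine Prod.ext ?_ (Prod.ext ?_ ?_) <;> simp <;> ring
      map_smul' := fun c v => by
        simp only [Prod.smul_fst, Prod.smul_snd, RingHom.id_apply]
        refine Prod.ext ?_ (Prod.ext ?_ ?_) <;> simp <;> ring }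
  have hadd : ∀ s t v, f s (f t v) = f (s + t) v := fun s t v => by
    simp only [f, LinearMap.coe_mk, AddHom.coe_mk]
    refine Prod.ext ?_ (Prod.ext ?_ ?_) <;> simp <;> ring
  have h0 : ∀ v, f 0 v = v := fun v => by simp [f]
  let T : Multiplicative F →* qAut Q :=
    { toFun := fun t => ⟨LinearEquiv.ofLinear (f t.toAdd) (f (-t.toAdd))
        (LinearMap.ext fun v => by rw [LinearMap.comp_apply, hadd, add_neg_cancel, h0]; rfl)
        (LinearMap.ext fun v => by rw [LinearMap.comp_apply, hadd, neg_add_cancel, h0]; rfl), fun v => by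
          show Q (f t.toAdd v) = Q v
          simp [Q, f]
          ring⟩
      map_one' := qAut_ext h0
      map_mul' := fun s t => qAut_ext fun v => (hadd _ _ v).symm }
  refine hasIso_of Q hQ (by simp [Module.finrank_prod]) (T (Multiplicative.ofAdd 1)) (orderOf_eq_prime ?_ ?_)
  · rw [← map_pow, ← ofAdd_nsmul, nsmul_eq_mul, mul_one, CharP.cast_eq_zero, ofAdd_zero, map_one]
  · intro h
    have h1 := congrArg (fun x : qAut Q => (x.1 ((0 : F), ((1 : F), (0 : F)))).1) h
    exact one_ne_zero (show (1 : F) = 0 by simpa [T, f] using h1)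

/-- An odd-dimensional space gives the standard odd orthogonal group. -/
theorem exists_qOdd_of_hasIso (h2 : (2 : F) ≠ 0) {n m : ℕ} (h : HasIso F (2 * n + 1) m) :
    ∃ g : qAut (qOdd n F), orderOf g = m := by
  obtain ⟨Q₀, hQ₀, g₀, hg₀⟩ := h
  let e : OddI n ≃ Fin (2 * n + 1) := Fintype.equivFinOfCardEq (by simp; ring)
  let f : (Fin (2 * n + 1) → F) ≃ₗ[F] (OddI n → F) := LinearEquiv.funCongrLeft F F e
  let Q : QuadraticForm F (OddI n → F) := Q₀.comp f.symm.toLinearMap
  have hf : ∀ v, Q (f v) = Q₀ v := fun v => by simp [Q]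
  have hQ : PolarNondeg Q := polarNondeg_congr f hf hQ₀
  have d1 := SylowTwo.det_polarGram_ne Q hQ
  have d0 := SylowTwo.det_polarGram_ne (qOdd n F) (polarNondeg_qOdd h2 n)
  set c := (polarGram Q).det * (polarGram (qOdd n F)).det with hc
  have hc0 : c ≠ 0 := mul_ne_zero d1 d0
  have hcQ : PolarNondeg (c • Q) := fun v hv => hQ v fun w => by
    have h := hv w
    simp only [QuadraticMap.polar, QuadraticMap.smul_apply, smul_eq_mul, ← mul_sub] at h
    exact (mul_eq_zero.1 h).resolve_left hc0
  have hG : polarGram (c • Q) = c • polarGram Q := Matrix.ext fun i j => by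
    simp [polarGram, QuadraticMap.polar, mul_sub]
  obtain ⟨e', he'⟩ := (isometry_iff_isSquare h2 (c • Q) (qOdd n F) hcQ (polarNondeg_qOdd h2 n)).2 (by
    refine ⟨c ^ (n + 1), ?_⟩
    rw [hG, Matrix.det_smul, mul_assoc, ← hc, ← pow_succ, ← pow_add]
    congr 1
    simp
    ring)
  let ι : qAut Q →* qAut (c • Q) :=
    { toFun := fun g => ⟨g.1, fun v => by rw [QuadraticMap.smul_apply, QuadraticMap.smul_apply, qAut_map]⟩
      map_one' := rfl
      map_mul' := fun _ _ => rfl }
  have hι : Function.Injective ι := fun a b h => Subtype.ext (congrArg Subtype.val h :)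
  refine ⟨qAutCongr e' he' (ι (qAutCongr f hf g₀)), ?_⟩
  rw [MulEquiv.orderOf_eq, orderOf_injective ι hι, MulEquiv.orderOf_eq, hg₀]

/-- An element of `PΩ(2n+1, q)` whose order is that of the square of a given isometry. -/
theorem exists_pomega_sq (h2 : (2 : F) ≠ 0) {n m : ℕ} (hn : 3 ≤ n) (h : HasIso F (2 * n + 1) m) :
    m / Nat.gcd m 2 ∈ Set.range (orderOf : Cfsg.POmega F (Cfsg.quadFormOdd n F) → ℕ) := by
  classical
  obtain ⟨g, hg⟩ := exists_qOdd_of_hasIso h2 h
  have hmem : g * g ∈ commutator (qAut (qOdd n F)) := Spin.sq_mem_commutator (qOdd n F) (polarNondeg_qOdd h2 n)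
    (Or.inr (by simp [Module.finrank_fintype_fun_eq_card]; omega)) g
  have hΩ : (isoEquiv (qOdd n F)).symm (g * g) ∈ Cfsg.Omega F ⇑(qOdd n F) := by
    rw [mem_Omega_iff, MulEquiv.apply_symm_apply]; exact hmem
  rw [← coe_qOdd]
  refine ⟨QuotientGroup.mk' _ (⟨_, hΩ⟩ : Cfsg.Omega F ⇑(qOdd n F)), ?_⟩
  rw [orderOf_injective _ (by rw [← MonoidHom.ker_eq_bot_iff, QuotientGroup.ker_mk']; exact center_Omega_qOdd hn h2),
    Subgroup.orderOf_mk, MulEquiv.orderOf_eq, ← _root_.sq, orderOf_pow' g two_ne_zero, hg]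

end CfsgLib.Spectra
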