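import Cfsg.Agent.Lib.KnownSimple.Spectra.SpOrbits
import Cfsg.Agent.Lib.Classical.SpOrder

/-!
The prime graph of `PSp(2n, q)`: elements of order `r p` and `r s`.
-/

set_option autoImplicit false
set_option linter.style.haveILetI false

namespace CfsgLib.Spectra

open Matrix CfsgLib.Classical CfsgLib.KnownSimple CfsgLib.PrimeGraphPSL

variable {F : Type*} [Field F] [Fintype F] {n : ℕ}

theorem exists_sp_of_dvd {η N : ℕ} (hη : 1 ≤ η) (h : N ∣ Fintype.card F ^ η - 1 ∨ N ∣ Fintype.card F ^ η + 1) :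
    ∃ Y : symplecticGroup (Fin η) F, orderOf Y = N := by
  obtain ⟨⟨Y₁, h1⟩, ⟨Y₂, h2⟩⟩ := exists_sp_orderOf_torus (F := F) hη
  rcases h with h | h
  · exact ⟨_, orderOf_pow_orderOf_div (orderOf_pos Y₁).ne' (h1 ▸ h)⟩
  · exact ⟨_, orderOf_pow_orderOf_div (orderOf_pos Y₂).ne' (h2 ▸ h)⟩

theorem exists_sp_embed {a : ℕ} (h : a ≤ n) (Y : symplecticGroup (Fin a) F) :
    ∃ Z : symplecticGroup (Fin n) F, orderOf Z = orderOf Y := by
  refine ⟨spSum (b := n - a) (Nat.add_sub_cancel' h) (Y, 1), ?_⟩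
  rw [orderOf_injective _ (spSum_injective _), Prod.orderOf, orderOf_one, Nat.lcm_one_right]

theorem exists_sp_sum {a b : ℕ} (h : a + b ≤ n) (Y : symplecticGroup (Fin a) F) (Z : symplecticGroup (Fin b) F)
    (hc : (orderOf Y).Coprime (orderOf Z)) :
    ∃ W : symplecticGroup (Fin n) F, orderOf W = orderOf Y * orderOf Z := by
  obtain ⟨Z', hZ'⟩ := exists_sp_embed (show b ≤ n - a by omega) Z
  refine ⟨spSum (show a + (n - a) = n by omega) (Y, Z'), ?_⟩
  rw [orderOf_injective _ (spSum_injective _), Prod.orderOf, hZ', hc.lcm_eq_mul]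

theorem exists_sp_transvection {p : ℕ} [Fact p.Prime] [CharP F p] :
    ∃ U : symplecticGroup (Fin 1) F, orderOf U = p := by
  let U : SpecialLinearGroup (Fin 2) F := ⟨!![1, 1; 0, 1], by simp [det_fin_two]⟩
  refine ⟨slToSp U, ?_⟩
  rw [orderOf_injective _ slToSp_injective]
  have hpow : ∀ k : ℕ, ((U ^ k : SpecialLinearGroup (Fin 2) F) : Matrix (Fin 2) (Fin 2) F) = !![1, (k : F); 0, 1] := by
    intro k
    induction k with
    | zero => ext i j; fin_cases i <;> fin_cases j <;> simp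
    | succ k ih =>
      rw [pow_succ, Matrix.SpecialLinearGroup.coe_mul, ih]
      ext i j
      fin_cases i <;> fin_cases j <;> simp [U, Matrix.mul_apply, Fin.sum_univ_two, add_comm]
  refine orderOf_eq_prime (Subtype.ext ?_) fun h => ?_
  · rw [hpow, CharP.cast_eq_zero, ← Matrix.one_fin_two]; rfl
  · have := congrArg (fun g : SpecialLinearGroup (Fin 2) F => (g : Matrix (Fin 2) (Fin 2) F) 0 1) h
    simp [U] at this

/-- Elements of odd order, and all elements in characteristic two, keep their order in `PSp`. -/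
theorem exists_psp_of_sp (hn : 1 ≤ n) (g : symplecticGroup (Fin n) F) (h : Odd (orderOf g) ∨ (2 : F) = 0) :
    orderOf (spMk g) = orderOf g := by
  by_cases h2 : (2 : F) = 0
  · refine Nat.dvd_antisymm (orderOf_map_dvd _ _) (orderOf_dvd_of_pow_eq_one (Subtype.ext ?_))
    rcases (spMk_pow_eq_one_iff g _).1 (pow_orderOf_eq_one (spMk g)) with h1 | h1
    · simpa using h1
    · have hneg : (-1 : Matrix (Fin n ⊕ Fin n) (Fin n ⊕ Fin n) F) = 1 := by
        have h3 : (-1 : F) = 1 := by linear_combination -h2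
        rw [← neg_one_smul F (1 : Matrix (Fin n ⊕ Fin n) (Fin n ⊕ Fin n) F), h3, one_smul]
      rw [hneg] at h1
      simpa using h1
  · exact orderOf_spMk_of_odd h2 hn (h.resolve_right h2)

theorem exists_lift_dvd {m : ℕ} {y : Cfsg.PSp n F} (hy : orderOf y = m) :
    ∃ g : symplecticGroup (Fin n) F, orderOf g = m := by
  obtain ⟨g, rfl⟩ := QuotientGroup.mk'_surjective _ y
  exact ⟨_, orderOf_pow_orderOf_div (orderOf_pos g).ne' (hy ▸ orderOf_map_dvd _ g)⟩

/-- `η ≤ n` for a prime dividing the order of `PSp`. -/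
theorem eta_le_of_dvd_card {p : ℕ} [Fact p.Prime] [CharP F p] {r η : ℕ} (hr : r.Prime) (hrp : r ≠ p)
    (hη : (Odd (orderOf ((Fintype.card F : ℕ) : ZMod r)) ∧ η = orderOf ((Fintype.card F : ℕ) : ZMod r)) ∨
      (Even (orderOf ((Fintype.card F : ℕ) : ZMod r)) ∧ 2 * η = orderOf ((Fintype.card F : ℕ) : ZMod r)))
    (h : r ∣ Nat.card (Cfsg.PSp n F)) : η ≤ n := by
  have h1 : r ∣ Nat.card (symplecticGroup (Fin n) F) := h.trans (Subgroup.card_quotient_dvd_card _)
  rw [card_sp n] at h1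
  rcases hr.dvd_mul.1 h1 with h2 | h2
  · exact absurd (hr.dvd_of_dvd_pow h2) (not_dvd_card (p := p) hr hrp)
  · obtain ⟨i, hi, hi'⟩ := (hr.prime.dvd_finsetProd_iff _).1 h2
    rw [Finset.mem_range] at hi
    rw [← orderOf_natCast_dvd_iff Fintype.card_pos] at hi'
    rcases hη with ⟨ho, e⟩ | ⟨-, e⟩
    · have := Nat.le_of_dvd (by omega) ((Nat.coprime_two_right.2 ho).dvd_of_dvd_mul_left hi')
      omega
    · have := Nat.le_of_dvd (by omega) hi'
      omega

theorem dvd_torus_of_eta {r η t : ℕ} (hr : r.Prime) (hη : 1 ≤ η) (ht : Odd t)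
    (h : (Odd (orderOf ((Fintype.card F : ℕ) : ZMod r)) ∧ η = orderOf ((Fintype.card F : ℕ) : ZMod r)) ∨
      (Even (orderOf ((Fintype.card F : ℕ) : ZMod r)) ∧ 2 * η = orderOf ((Fintype.card F : ℕ) : ZMod r))) :
    (Odd (orderOf ((Fintype.card F : ℕ) : ZMod r)) → r ∣ Fintype.card F ^ (η * t) - 1) ∧
      (Even (orderOf ((Fintype.card F : ℕ) : ZMod r)) → r ∣ Fintype.card F ^ (η * t) + 1) := by
  refine ⟨fun ho => ?_, fun he => ?_⟩
  · rcases h with ⟨-, e⟩ | ⟨he, -⟩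
    · exact (orderOf_natCast_dvd_iff Fintype.card_pos).1 (e ▸ dvd_mul_right _ _)
    · exact absurd he (Nat.not_even_iff_odd.2 ho)
  · rcases h with ⟨ho, -⟩ | ⟨-, e⟩
    · exact absurd he (Nat.not_even_iff_odd.2 ho)
    · exact neg_of_eta Fintype.card_pos hr e hη ht

theorem psp_order_mul_char_iff {p : ℕ} [Fact p.Prime] [CharP F p] (hn : 2 ≤ n) {r k ηk : ℕ} (hr : r.Prime)
    (hr2 : r ≠ 2) (hrp : r ≠ p) (hk : k = orderOf ((Fintype.card F : ℕ) : ZMod r))
    (hηk : (Odd k ∧ ηk = k) ∨ (Even k ∧ 2 * ηk = k)) :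
    r * p ∈ Set.range (orderOf : Cfsg.PSp n F → ℕ) ↔ ηk ≤ n - 1 := by
  constructor
  · rintro ⟨y, hy⟩
    by_contra hc
    obtain ⟨g, hg⟩ := exists_lift_dvd hy
    exact no_order_mul_char (p := p) (by omega) hr hr2 hrp (hk ▸ hηk) (by omega) g hg.symm.dvd
  · intro hle
    have hη : 1 ≤ ηk := by
      have := hk ▸ orderOf_natCast_pos hr (not_dvd_card (p := p) hr hrp)
      rcases hηk with ⟨-, h⟩ | ⟨-, h⟩ <;> omega
    obtain ⟨ho, he⟩ := dvd_torus_of_eta (F := F) hr hη odd_one (hk ▸ hηk)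
    rw [mul_one] at ho he
    obtain ⟨Y, hY⟩ := exists_sp_of_dvd (F := F) hη ((Nat.even_or_odd _).elim (fun h => Or.inr (he h)) fun h => Or.inl (ho h))
    obtain ⟨U, hU⟩ := exists_sp_transvection (F := F) (p := p)
    obtain ⟨W, hW⟩ := exists_sp_sum (n := n) (show ηk + 1 ≤ n by omega) Y U
      (hY.symm ▸ hU.symm ▸ (Nat.coprime_primes hr Fact.out).2 hrp)
    refine ⟨spMk W, ?_⟩
    rw [exists_psp_of_sp (by omega) W ?_, hW, hY, hU]
    rcases Nat.Prime.eq_two_or_odd' (Fact.out : p.Prime) with hp2 | hpo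
    · right
      subst hp2
      exact CharP.cast_eq_zero F 2
    · left
      rw [hW, hY, hU]
      exact (hr.odd_of_ne_two hr2).mul hpo

theorem psp_order_mul_iff {p : ℕ} [Fact p.Prime] [CharP F p] (hn : 1 ≤ n) {r s k l ηk ηl : ℕ} (hr : r.Prime)
    (hs : s.Prime) (hr2 : r ≠ 2) (hs2 : s ≠ 2) (hrp : r ≠ p) (hsp : s ≠ p) (hrs : r ≠ s)
    (hsG : s ∣ Nat.card (Cfsg.PSp n F))
    (hk : k = orderOf ((Fintype.card F : ℕ) : ZMod r)) (hl : l = orderOf ((Fintype.card F : ℕ) : ZMod s))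
    (hηk : (Odd k ∧ ηk = k) ∨ (Even k ∧ 2 * ηk = k)) (hηl : (Odd l ∧ ηl = l) ∨ (Even l ∧ 2 * ηl = l))
    (hkl : ηk ≤ ηl) :
    r * s ∈ Set.range (orderOf : Cfsg.PSp n F → ℕ) ↔ ηk + ηl ≤ n ∨ ∃ t : ℕ, Odd t ∧ l = k * t := by
  constructor
  · rintro ⟨y, hy⟩
    obtain ⟨g, hg⟩ := exists_lift_dvd hy
    exact order_mul_cases (p := p) hn hr hs hr2 hs2 hrp hsp hrs hk hl hηk hηl hkl g hg
  · intro h
    have hηk1 : 1 ≤ ηk := by
      have := hk ▸ orderOf_natCast_pos hr (not_dvd_card (p := p) hr hrp)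
      rcases hηk with ⟨-, h⟩ | ⟨-, h⟩ <;> omega
    have hcop := (Nat.coprime_primes hr hs).2 hrs
    suffices h' : ∃ W : symplecticGroup (Fin n) F, orderOf W = r * s by
      obtain ⟨W, hW⟩ := h'
      refine ⟨spMk W, ?_⟩
      rw [exists_psp_of_sp hn W (Or.inl (hW ▸ (hr.odd_of_ne_two hr2).mul (hs.odd_of_ne_two hs2))), hW]
    obtain ⟨hor, her⟩ := dvd_torus_of_eta (F := F) hr hηk1 odd_one (hk ▸ hηk)
    obtain ⟨hos, hes⟩ := dvd_torus_of_eta (F := F) hs (show 1 ≤ ηl by omega) odd_one (hl ▸ hηl)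
    rw [mul_one] at hor her hos hes
    rcases h with h | ⟨t, ht, hlt⟩
    · obtain ⟨Y, hY⟩ := exists_sp_of_dvd (F := F) hηk1
        ((Nat.even_or_odd _).elim (fun h => Or.inr (her h)) fun h => Or.inl (hor h))
      obtain ⟨Z, hZ⟩ := exists_sp_of_dvd (F := F) (show 1 ≤ ηl by omega)
        ((Nat.even_or_odd _).elim (fun h => Or.inr (hes h)) fun h => Or.inl (hos h))
      obtain ⟨W, hW⟩ := exists_sp_sum (n := n) h Y Z (hY.symm ▸ hZ.symm ▸ hcop)
      exact ⟨W, by rw [hW, hY, hZ]⟩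
    · obtain ⟨hort, hert⟩ := dvd_torus_of_eta (F := F) hr hηk1 ht (hk ▸ hηk)
      have hηln : ηl ≤ n := eta_le_of_dvd_card (p := p) hs hsp (hl ▸ hηl) hsG
      have hdvd : r * s ∣ Fintype.card F ^ ηl - 1 ∨ r * s ∣ Fintype.card F ^ ηl + 1 := by
        rcases hηk with ⟨ho, e⟩ | ⟨he, e⟩
        · have hlo : Odd l := hlt ▸ ho.mul ht
          have e' : ηl = l := by
            rcases hηl with ⟨-, e'⟩ | ⟨he', -⟩
            · exact e'
            · exact absurd he' (Nat.not_even_iff_odd.2 hlo)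
          refine Or.inl (hcop.mul_dvd_of_dvd_of_dvd ?_ (hos (hl ▸ hlo)))
          rw [show ηl = ηk * t by rw [e', hlt, e]]
          exact hort (hk ▸ ho)
        · have hle : Even l := hlt ▸ he.mul_right t
          have e' : 2 * ηl = l := by
            rcases hηl with ⟨ho', -⟩ | ⟨-, e'⟩
            · exact absurd hle (Nat.not_even_iff_odd.2 ho')
            · exact e'
          refine Or.inr (hcop.mul_dvd_of_dvd_of_dvd ?_ (hes (hl ▸ hle)))
          rw [show ηl = ηk * t from Nat.eq_of_mul_eq_mul_left two_pos (by rw [e', hlt, ← e, mul_assoc])]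
          exact hert (hk ▸ he)
      obtain ⟨Y, hY⟩ := exists_sp_of_dvd (F := F) (show 1 ≤ ηl by omega) hdvd
      obtain ⟨W, hW⟩ := exists_sp_embed hηln Y
      exact ⟨W, hW.trans hY⟩

end CfsgLib.Spectra
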