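import Cfsg.Agent.Lib.KnownSimple.Spectra.EigenFunction
import Cfsg.Agent.Lib.Classical.SpinorTorus
import Cfsg.Agent.Lib.Classical.QuadPOmega
import Cfsg.Agent.Lib.Classical.OmegaOdd
import Cfsg.Agent.Lib.Classical.QuadDiscStd

/-!
Elements of `Ω(2n+1, q)`: a matrix representation, and no involution commuting with a large torus element
unless the torus has a quarter turn.
-/

set_option autoImplicit false
set_option linter.style.haveILetI false

namespace CfsgLib.Spectra

open Matrix CfsgLib.Classical CfsgLib.PrimeGraphPSL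

variable {F : Type*} [Field F] [Fintype F] {n : ℕ}

/-- The index equivalence of the odd orthogonal space. -/
noncomputable def oddIdx (n : ℕ) : OddI n ≃ Fin (2 * n + 1) := Fintype.equivFinOfCardEq (by simp; ring)

/-- The elements of `Ω(2n+1, q)` as matrices on `Fin (2n+1)`. -/
noncomputable def omegaRep : Cfsg.Omega F ⇑(qOdd n F) →* Matrix (Fin (2 * n + 1)) (Fin (2 * n + 1)) F :=
  (Matrix.reindexAlgEquiv F F (oddIdx n)).toRingEquiv.toRingHom.toMonoidHom.comp
    (((Units.coeHom _).comp (Cfsg.isometryGroup F ⇑(qOdd n F)).subtype).comp (Cfsg.Omega F ⇑(qOdd n F)).subtype)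

omit [Fintype F] in
theorem omegaRep_injective : Function.Injective (omegaRep (F := F) (n := n)) := fun _ _ h =>
  Subtype.ext (Subtype.ext (Units.ext ((Matrix.reindexAlgEquiv F F _).injective h)))

/-- The Gram matrix on `Fin (2n+1)`. -/
noncomputable def omegaGram (F : Type*) [Field F] (n : ℕ) : Matrix (Fin (2 * n + 1)) (Fin (2 * n + 1)) F :=
  Matrix.reindexAlgEquiv F F (oddIdx n) (polarGram (qOdd n F))

omit [Fintype F] in
theorem omegaGram_det (h2 : (2 : F) ≠ 0) : (omegaGram F n).det ≠ 0 := by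
  rw [omegaGram, Matrix.det_reindexAlgEquiv]
  exact SylowTwo.det_polarGram_ne _ (polarNondeg_qOdd h2 n)

omit [Fintype F] in
theorem omegaRep_det (g : Cfsg.Omega F ⇑(qOdd n F)) : (omegaRep g).det = 1 := by
  show (Matrix.reindexAlgEquiv F F (oddIdx n) _).det = 1
  rw [Matrix.det_reindexAlgEquiv]
  exact det_eq_one_of_mem_Omega g.2

omit [Fintype F] in
theorem omegaRep_gram (g : Cfsg.Omega F ⇑(qOdd n F)) :
    (omegaRep g)ᵀ * omegaGram F n * omegaRep g = omegaGram F n := by
  set M := ((g.1.1 : GL (OddI n) F) : Matrix (OddI n) (OddI n) F)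
  have h : Mᵀ * polarGram (qOdd n F) * M = polarGram (qOdd n F) := Matrix.ext fun i j => by
    conv_rhs => rw [show polarGram (qOdd n F) i j = QuadraticMap.polar (qOdd n F) (Pi.single i 1) (Pi.single j 1) from rfl,
      ← qAut_polar (isoEquiv (qOdd n F) g.1), isoEquiv_apply, isoEquiv_apply, SylowTwo.polarGram_form]
    show _ = (M *ᵥ Pi.single i 1) ⬝ᵥ (polarGram (qOdd n F) *ᵥ (M *ᵥ Pi.single j 1))
    rw [mulVec_mulVec, ← vecMul_transpose, ← dotProduct_mulVec, mulVec_mulVec, ← Matrix.mul_assoc]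
    simp [Matrix.mulVec_single_one, dotProduct, Pi.single_apply]
  show (Matrix.reindexAlgEquiv F F (oddIdx n) M)ᵀ * _ * Matrix.reindexAlgEquiv F F (oddIdx n) M = _
  rw [omegaGram, Matrix.coe_reindexAlgEquiv, transpose_reindex]
  rw [← Matrix.coe_reindexAlgEquiv F F, ← map_mul, ← map_mul, h]

set_option maxHeartbeats 800000 in
/-- The shape of an involution commuting with a large torus element. -/
theorem omega_involution_shape {p : ℕ} [Fact p.Prime] [CharP F p] (h2 : (2 : F) ≠ 0) (hn : 2 ≤ n) {r : ℕ}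
    (hr : r.Prime) (hr2 : r ≠ 2) (hrp : r ≠ p)
    (hcase : (orderOf ((Fintype.card F : ℕ) : ZMod r) = n ∧ Odd n ∧ ¬ 4 ∣ Fintype.card F ^ n - 1) ∨
      (orderOf ((Fintype.card F : ℕ) : ZMod r) = 2 * n ∧ ¬ 4 ∣ Fintype.card F ^ n + 1))
    (b z : Cfsg.Omega F ⇑(qOdd n F)) (hb : orderOf b = r) (hz : orderOf z = 2) (hc : Commute b z) :
    ∃ (w : OddI n → F) (φl : (OddI n → F) →ₗ[F] F),
      (∀ v, (isoEquiv (qOdd n F) z.1).1 v = -v + φl v • w) ∧ φl w = 2 ∧ (isoEquiv (qOdd n F) b.1).1 w = w ∧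
      ∀ v, (isoEquiv (qOdd n F) b.1).1 v = v → ∃ t : F, v = t • w := by
  classical
  haveI : Fact r.Prime := ⟨hr⟩
  set q := Fintype.card F with hqdef
  have hodd : Odd q := odd_card_of_two_ne_zero h2
  have hq1 : 1 ≤ q := Fintype.card_pos
  set A := omegaRep b with hA
  set Z := omegaRep z with hZ
  have hAr : orderOf A = r := by rw [hA, orderOf_injective _ omegaRep_injective, hb]
  have hη : (Odd (orderOf (q : ZMod r)) ∧ n = orderOf (q : ZMod r)) ∨
      (Even (orderOf (q : ZMod r)) ∧ 2 * n = orderOf (q : ZMod r)) :=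
    by
      rcases hcase with ⟨h1, h3, -⟩ | ⟨h1, -⟩
      · exact Or.inl ⟨by rw [h1]; exact h3, h1.symm⟩
      · exact Or.inr ⟨by rw [h1]; exact even_two_mul n, h1.symm⟩
  obtain ⟨hnd, x, hx, hxr, hroots⟩ := nodup_mRoots (p := p) (omegaGram_det h2) (omegaRep_gram b) (n := n) (by omega)
    (Or.inr ⟨rfl, omegaRep_det b, h2⟩) hr hr2 hrp hAr le_rfl hη
  have hZ2 : Z ^ 2 = 1 := by rw [hZ, ← map_pow, orderOf_dvd_iff_pow_eq_one.1 hz.dvd, map_one]
  have hAZ : Commute A Z := hc.map omegaRep
  obtain ⟨c, hc1, hsign⟩ := eigen_function_sign (p := p) (omegaGram_det h2) (omegaRep_gram b) (omegaRep_gram z)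
    hAZ (by rw [show (4 : ℕ) = 2 * 2 from rfl, pow_mul, hZ2, one_pow]) hnd hr hrp hodd (by omega : 1 ≤ n) hcase hx hxr
  have hcc : c * c = 1 := by rcases hc1 with rfl | rfl <;> simp
  set K := AlgebraicClosure F
  let φ : Matrix (Fin (2 * n + 1)) (Fin (2 * n + 1)) F →+* Matrix (Fin (2 * n + 1)) (Fin (2 * n + 1)) K :=
    (algebraMap F K).mapMatrix
  have hφ : Function.Injective φ := Matrix.map_injective (algebraMap F K).injective
  obtain ⟨ι, _, _, l, bK, hl, hmem, hbK⟩ := exists_eigenbasis hnd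
  -- the range of `z - c` is fixed by `b`
  have hfixed : (A - 1) * (Z - c • 1) = 0 := by
    apply hφ
    rw [map_zero]
    refine (Matrix.toLinAlgEquiv' (R := K)).injective (bK.ext fun i => ?_)
    rw [map_zero, LinearMap.zero_apply, Matrix.toLinAlgEquiv'_apply]
    have hsmul : φ (c • 1) = algebraMap F K c • 1 := by
      ext a d
      by_cases h : a = d <;> simp [φ, h, Matrix.one_apply]
    rw [map_mul, map_sub, map_sub, map_one, hsmul, ← Matrix.mulVec_mulVec, Matrix.sub_mulVec (A := φ Z),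
      Matrix.smul_mulVec, Matrix.one_mulVec]
    rcases hroots (l i) ((hmem _).2 ⟨i, rfl⟩) with ⟨h1, -⟩ | ⟨j, hj⟩
    · have hAb : φ A *ᵥ bK i = bK i := by rw [show φ A = A.map (algebraMap F K) from rfl, hbK, h1, one_smul]
      obtain ⟨μ, hspec, -⟩ := exists_eigen_function hnd hAZ
      rw [show φ Z = Z.map (algebraMap F K) from rfl, hspec _ _ ((hmem _).2 ⟨i, rfl⟩) (hbK i), ← sub_smul,
        Matrix.mulVec_smul, Matrix.sub_mulVec, hAb, Matrix.one_mulVec, sub_self, smul_zero]
    · rw [show φ Z = Z.map (algebraMap F K) from rfl, hsign _ j _ hj (hbK i), sub_self, Matrix.mulVec_zero]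
  -- fixed vectors are proportional
  have hprop : ∀ u w : Fin (2 * n + 1) → F, A *ᵥ u = u → A *ᵥ w = w → w ≠ 0 → ∃ t : F, u = t • w := by
    intro u w hu hw hw0
    have hlift : ∀ v : Fin (2 * n + 1) → F, A *ᵥ v = v →
        A.map (algebraMap F K) *ᵥ (algebraMap F K ∘ v) = (1 : K) • (algebraMap F K ∘ v) := by
      intro v hv
      rw [one_smul]
      funext a
      rw [← RingHom.map_mulVec, hv]
      rfl
    obtain ⟨i, hi⟩ := (hmem _).1 (one_mem_mRoots (odd_two_mul_add_one n) h2 (omegaGram_det h2) (omegaRep_gram b)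
      (omegaRep_det b))
    have h1 := eigvec_eq hl hbK (i := i) (hi.symm ▸ hlift u hu)
    have h3 := eigvec_eq hl hbK (i := i) (hi.symm ▸ hlift w hw)
    obtain ⟨a, ha⟩ := Function.ne_iff.1 hw0
    refine ⟨u a / w a, funext fun d => ?_⟩
    rw [Pi.smul_apply, smul_eq_mul, div_mul_eq_mul_div, eq_div_iff ha]
    apply (algebraMap F K).injective
    rw [map_mul, map_mul, show algebraMap F K (u d) = (algebraMap F K ∘ u) d from rfl,
      show algebraMap F K (w a) = (algebraMap F K ∘ w) a from rfl,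
      show algebraMap F K (u a) = (algebraMap F K ∘ u) a from rfl,
      show algebraMap F K (w d) = (algebraMap F K ∘ w) d from rfl, h1, h3]
    simp only [Pi.smul_apply, smul_eq_mul]
    ring
  have hne : Z - c • 1 ≠ 0 := by
    intro h
    have hZc := sub_eq_zero.1 h
    have hd : Z.det = 1 := omegaRep_det z
    rw [hZc, Matrix.det_smul, Matrix.det_one, mul_one, Fintype.card_fin, pow_succ, pow_mul, _root_.sq, hcc, one_pow,
      one_mul] at hd
    have : z = 1 := omegaRep_injective (show omegaRep z = omegaRep 1 by rw [map_one, ← hZ, hZc, hd, one_smul])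
    rw [this, orderOf_one] at hz
    omega
  obtain ⟨u₀, hu₀⟩ : ∃ u₀, (Z - c • 1) *ᵥ u₀ ≠ 0 := by
    by_contra h
    push Not at h
    exact hne (Matrix.ext_of_mulVec_single fun i => by rw [h, Matrix.zero_mulVec])
  set w := (Z - c • 1) *ᵥ u₀ with hw
  have hrange : ∀ u, A *ᵥ ((Z - c • 1) *ᵥ u) = (Z - c • 1) *ᵥ u := fun u => by
    have h := congrArg (fun M => M *ᵥ u) hfixed
    simp only [Matrix.zero_mulVec, ← Matrix.mulVec_mulVec, Matrix.sub_mulVec (A := A), Matrix.one_mulVec, sub_eq_zero] at h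
    exact h
  obtain ⟨a, ha⟩ := Function.ne_iff.1 hu₀
  let f : Fin (2 * n + 1) → F := (w a)⁻¹ • fun j => (Z - c • 1) a j
  have hform : ∀ u, Z *ᵥ u = c • u + (f ⬝ᵥ u) • w := by
    intro u
    obtain ⟨t, ht⟩ := hprop _ _ (hrange u) (hrange u₀) hu₀
    have ht' : f ⬝ᵥ u = t := by
      have h := congrFun ht a
      rw [Pi.smul_apply, smul_eq_mul] at h
      show ((w a)⁻¹ • fun j => (Z - c • 1) a j) ⬝ᵥ u = t
      rw [smul_dotProduct, show (fun j => (Z - c • 1) a j) ⬝ᵥ u = ((Z - c • 1) *ᵥ u) a from rfl, h, smul_eq_mul,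
        mul_comm t, inv_mul_cancel_left₀ (show w a ≠ 0 from ha)]
    rw [ht', ← ht, Matrix.sub_mulVec, Matrix.smul_mulVec, Matrix.one_mulVec, add_sub_cancel]
  have hZw : Z *ᵥ w = -c • w := by
    have h1 : Z *ᵥ w = (Z * (Z - c • 1)) *ᵥ u₀ := by rw [hw, Matrix.mulVec_mulVec]
    rw [h1, Matrix.mul_sub, ← pow_two, hZ2, Matrix.mul_smul, Matrix.mul_one, hw, ← Matrix.smul_mulVec]
    congr 1
    rw [smul_sub, smul_smul, neg_mul, hcc]
    module
  have hfw : f ⬝ᵥ w = -(2 * c) := by
    have h := hform w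
    rw [hZw] at h
    obtain ⟨d, hd⟩ := Function.ne_iff.1 hu₀
    have h' := congrFun h d
    simp only [Pi.smul_apply, Pi.add_apply, smul_eq_mul] at h'
    have h'' : (f ⬝ᵥ w + 2 * c) * w d = 0 := by linear_combination -h'
    exact eq_neg_of_add_eq_zero_left ((mul_eq_zero.1 h'').resolve_right (show w d ≠ 0 from hd))
  have hcm : c = -1 := by
    rcases hc1 with h | h
    · exfalso
      have hcr : ∀ v, (replicateCol Unit w * replicateRow Unit f) *ᵥ v = (f ⬝ᵥ v) • w := fun v => by
        funext d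
        rw [Pi.smul_apply, smul_eq_mul, dotProduct, Finset.sum_mul]
        show ∑ j, (replicateCol Unit w * replicateRow Unit f) d j * v j = _
        exact Finset.sum_congr rfl fun j _ => by
          rw [Matrix.mul_apply, Fintype.sum_unique, replicateCol_apply, replicateRow_apply]
          ring
      have hZ' : Z = 1 + replicateCol Unit w * replicateRow Unit f := Matrix.ext_of_mulVec_single fun i => by
        rw [hform, h, one_smul, Matrix.add_mulVec, Matrix.one_mulVec, hcr]
      have hd : Z.det = 1 := omegaRep_det z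
      rw [hZ', det_one_add_replicateCol_mul_replicateRow, hfw, h] at hd
      exact h2 (by linear_combination -hd)
    · exact h
  subst hcm
  -- back to the quadratic space
  have hrep : ∀ (g : Cfsg.Omega F ⇑(qOdd n F)) (v : OddI n → F),
      omegaRep g *ᵥ (v ∘ (oddIdx n).symm) = (isoEquiv (qOdd n F) g.1).1 v ∘ (oddIdx n).symm := by
    intro g v
    rw [isoEquiv_apply]
    show Matrix.reindexAlgEquiv F F (oddIdx n) _ *ᵥ _ = _
    rw [Matrix.coe_reindexAlgEquiv, Matrix.reindex_apply, Matrix.submatrix_mulVec_equiv, Equiv.symm_symm]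
    congr 2
    funext i
    simp
  have hw' : (w ∘ oddIdx n) ∘ (oddIdx n).symm = w := by funext i; simp
  refine ⟨w ∘ oddIdx n,
    { toFun := fun v => f ⬝ᵥ (v ∘ (oddIdx n).symm)
      map_add' := fun v u => dotProduct_add f _ _
      map_smul' := fun t v => dotProduct_smul t f _ }, fun v => ?_, ?_, ?_, fun v hbv => ?_⟩
  · have h : Z *ᵥ (v ∘ (oddIdx n).symm) = _ := hform (v ∘ (oddIdx n).symm)
    rw [hZ, hrep z v] at h
    funext i
    have h' := congrFun h (oddIdx n i)
    simpa using h'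
  · show f ⬝ᵥ ((w ∘ oddIdx n) ∘ (oddIdx n).symm) = 2
    rw [hw', hfw]; ring
  · have h := hrep b (w ∘ oddIdx n)
    have h' : A *ᵥ w = w := hrange u₀
    rw [hw', ← hA, h'] at h
    funext i
    have h'' := congrFun h (oddIdx n i)
    simp only [Function.comp_apply, Equiv.symm_apply_apply] at h''
    exact h''.symm
  · have h1 : A *ᵥ (v ∘ (oddIdx n).symm) = v ∘ (oddIdx n).symm := by rw [hA, hrep b v, hbv]
    obtain ⟨t, ht⟩ := hprop _ w h1 (hrange u₀) hu₀
    refine ⟨t, funext fun i => ?_⟩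
    have h' := congrFun ht (oddIdx n i)
    simpa using h'

set_option maxHeartbeats 800000 in
/-- No involution of `Ω(2n+1, q)` commutes with an element of large prime order unless the torus has a quarter turn. -/
theorem omega_no_involution {p : ℕ} [Fact p.Prime] [CharP F p] (h2 : (2 : F) ≠ 0) (hn : 2 ≤ n) {r : ℕ}
    (hr : r.Prime) (hr2 : r ≠ 2) (hrp : r ≠ p)
    (hcase : (orderOf ((Fintype.card F : ℕ) : ZMod r) = n ∧ Odd n ∧ ¬ 4 ∣ Fintype.card F ^ n - 1) ∨
      (orderOf ((Fintype.card F : ℕ) : ZMod r) = 2 * n ∧ ¬ 4 ∣ Fintype.card F ^ n + 1))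
    (b z : Cfsg.Omega F ⇑(qOdd n F)) (hb : orderOf b = r) (hz : orderOf z = 2) (hc : Commute b z) : False := by
  classical
  haveI : Fact r.Prime := ⟨hr⟩
  set q := Fintype.card F with hqdef
  have hodd : Odd q := odd_card_of_two_ne_zero h2
  have hq1 : 1 ≤ q := Fintype.card_pos
  set bq : qAut (qOdd n F) := isoEquiv (qOdd n F) b.1 with hbq
  set zq : qAut (qOdd n F) := isoEquiv (qOdd n F) z.1 with hzq
  obtain ⟨w', φl, hzv, hφw, hbw, hprop⟩ := omega_involution_shape (p := p) h2 hn hr hr2 hrp hcase b z hb hz hc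
  have hzb : zq * bq = bq * zq := by
    rw [hzq, hbq, ← map_mul, ← map_mul]
    exact congrArg (isoEquiv (qOdd n F)) (congrArg Subtype.val hc.eq.symm)
  have hzw : zq.1 w' = w' := by rw [hzv, hφw, two_smul]; abel
  let W := LinearMap.ker φl
  have hzW : ∀ v ∈ W, zq.1 v = -v := fun v hv => by rw [hzv, LinearMap.mem_ker.1 hv, zero_smul, add_zero]
  have hperp : ∀ v ∈ W, QuadraticMap.polar (qOdd n F) v w' = 0 := fun v hv => by
    have h := qAut_polar zq v w'
    rw [hzW v hv, hzw, QuadraticMap.polar_neg_left] at h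
    have h' : (2 : F) * QuadraticMap.polar (qOdd n F) v w' = 0 := by linear_combination -h
    exact (mul_eq_zero.1 h').resolve_left h2
  have hdec : ∀ v, ∃ u ∈ W, v = u + (φl v / 2) • w' := fun v =>
    ⟨v - (φl v / 2) • w', by simp [W, hφw, h2], by abel⟩
  have hnd' : ∀ v ∈ W, (∀ y ∈ W, QuadraticMap.polar (qOdd n F) v y = 0) → v = 0 := by
    intro v hv h
    refine polarNondeg_qOdd h2 n v fun y => ?_
    obtain ⟨u, hu, huy⟩ := hdec y
    rw [huy]
    rw [QuadraticMap.polar_add_right, QuadraticMap.polar_smul_right, h u hu, hperp v hv, smul_zero, add_zero]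
  have hex : Fintype.card F ≠ 2 ∨ Module.finrank F (OddI n → F) ≠ 4 :=
    Or.inl fun h => by rw [hqdef, h] at hodd; exact Nat.not_even_iff_odd.2 hodd even_two
  obtain ⟨θ, hθ, hiff⟩ := Spin.exists_spin (qOdd n F) (polarNondeg_qOdd h2 n) hex
  obtain ⟨eb, h', hne', horth, hneg, hid, hθh⟩ := SpinTorus.exists_neg_part (qOdd n F) θ hθ h2 W hnd'
  have hh' : h' = zq := qAut_ext fun v => by
    obtain ⟨u, hu, hv⟩ := hdec v
    rw [hv, map_add, map_add, map_smul, map_smul, hneg u hu, hzW u hu, hzw,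
      hid w' fun y hy => by rw [QuadraticMap.polar_comm]; exact hperp y hy]
  have hsq : IsSquare (∏ i, (qOdd n F) (eb i : OddI n → F)) := by
    have h := ((hiff zq).1 ((mem_Omega_iff (qOdd n F)).1 z.2)).2
    rwa [← hh', hθh, Spin.sqSign_eq_one] at h
  have hdim : Module.finrank F W = 2 * n := by
    have hr' : LinearMap.range φl = ⊤ :=
      LinearMap.range_eq_top.2 fun t => ⟨(t / 2) • w', by rw [map_smul, hφw, smul_eq_mul, div_mul_cancel₀ _ h2]⟩
    have h := LinearMap.finrank_range_add_finrank_ker φl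
    rw [hr', finrank_top, Module.finrank_self, Module.finrank_fintype_fun_eq_card] at h
    simp at h
    show Module.finrank F (LinearMap.ker φl) = _
    omega
  have hbW : ∀ v ∈ W, bq.1 v ∈ W := fun v hv => by
    have hcq : zq.1 (bq.1 v) = bq.1 (zq.1 v) := by
      rw [← qAut_mul_apply, ← qAut_mul_apply, hzb]
    rw [hzW v hv, map_neg, hzv] at hcq
    have h := congrArg φl hcq
    rw [map_add, map_smul, map_neg, hφw, smul_eq_mul] at h
    show φl (bq.1 v) = 0
    have h' : (2 : F) * φl (bq.1 v) = 0 := by linear_combination h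
    exact (mul_eq_zero.1 h').resolve_left h2
  have hfix : ∀ v ∈ W, bq.1 v = v → v = 0 := fun v hv hbv => by
    obtain ⟨t, hvt⟩ := hprop v hbv
    have h0 : φl v = 0 := hv
    rw [hvt, map_smul, hφw, smul_eq_mul] at h0
    rw [hvt, (mul_eq_zero.1 h0).resolve_right h2, zero_smul]
  -- singular vectors of `W` fall into orbits of length `r`
  let S := {v : W // (qOdd n F) (v : OddI n → F) = 0}
  haveI : Fintype S := Fintype.ofFinite _
  let T : qAut (qOdd n F) → Prop := fun g => ∀ v ∈ W, g.1 v ∈ W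
  let σ : Equiv.Perm S := Equiv.ofBijective
    (fun v => ⟨⟨bq.1 v.1, hbW _ v.1.2⟩, (qAut_map bq _).trans v.2⟩)
    (Finite.injective_iff_bijective.1 fun u v huv =>
      Subtype.ext (Subtype.ext (bq.1.injective (congrArg (fun x : S => ((x.1 : W) : OddI n → F)) huv))))
  have hσv : ∀ (j : ℕ) (v : S), (((σ ^ j) v).1 : OddI n → F) = (bq ^ j).1 v.1 := by
    intro j
    induction j with
    | zero => intro v; rfl
    | succ j ih => intro v; rw [pow_succ', Equiv.Perm.mul_apply, pow_succ', qAut_mul_apply, ← ih]; rfl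
  have hσr : σ ^ r ^ 1 = 1 := by
    refine Equiv.ext fun v => Subtype.ext (Subtype.ext ?_)
    rw [pow_one, hσv, show bq ^ r = 1 by
      rw [← hb, ← map_pow, ← SubmonoidClass.coe_pow, pow_orderOf_eq_one, OneMemClass.coe_one, map_one]]
    rfl
  have hsupp : σ.supportᶜ = {⟨0, by simp⟩} := by
    ext v
    rw [Finset.mem_compl, Equiv.Perm.notMem_support, Finset.mem_singleton]
    constructor
    · intro h
      exact Subtype.ext (Subtype.ext (hfix _ v.1.2 (congrArg (fun x : S => ((x.1 : W) : OddI n → F)) h)))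
    · rintro rfl
      exact Subtype.ext (Subtype.ext (map_zero bq.1))
  have hmod := Equiv.Perm.card_compl_support_modEq hσr
  rw [hsupp, Finset.card_singleton] at hmod
  have hzeros : ∀ (κ : Type) [Fintype κ] [DecidableEq κ] (R : QuadraticForm F (κ → F)), PolarNondeg R →
      Fintype.card κ = 2 * n → IsSquare (polarGram R).det → zeros R = Fintype.card S := by
    intro κ _ _ R hR hκ hRsq
    let η : κ ≃ Fin (Module.finrank F W) := Fintype.equivFinOfCardEq (hκ.trans hdim.symm)
    let g : (κ → F) ≃ₗ[F] W := (eb.reindex η.symm).equivFun.symm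
    let D : QuadraticForm F (κ → F) := (qOdd n F).comp (W.subtype.comp g.toLinearMap)
    have hg : ∀ k, g (Pi.single k 1) = eb (η k) := fun k => by
      show (eb.reindex η.symm).equivFun.symm (Pi.single k 1) = _
      rw [Module.Basis.equivFun_symm_apply, Finset.sum_eq_single k]
      · simp
      · intro k' _ hk'; simp [hk']
      · simp
    have hDn : PolarNondeg D := fun v hv => by
      have h := hnd' (g v) (g v).2 fun y hy => by
        obtain ⟨u, hu⟩ := g.surjective ⟨y, hy⟩
        have h' := hv u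
        rw [show y = (g u : OddI n → F) by rw [hu]]
        simpa [D, QuadraticMap.polar] using h'
      exact g.injective (Subtype.ext (h.trans (by simp)))
    have hG : polarGram D = Matrix.diagonal fun k => 2 * (qOdd n F) (eb (η k) : OddI n → F) := Matrix.ext fun i j => by
      have h' : polarGram D i j = QuadraticMap.polar (qOdd n F) (eb (η i) : OddI n → F) (eb (η j)) := by
        simp [polarGram, QuadraticMap.polar, D, hg]
      rw [h']
      rcases eq_or_ne i j with rfl | hij
      · rw [Matrix.diagonal_apply_eq, QuadraticMap.polar_self, two_smul, two_mul]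
      · rw [Matrix.diagonal_apply_ne _ hij, horth _ _ fun h => hij (η.injective h)]
    obtain ⟨g', hg'⟩ := (isometry_iff_isSquare h2 D R hDn hR).2 (by
      rw [hG, Matrix.det_diagonal, Finset.prod_mul_distrib, Finset.prod_const, Finset.card_univ, hκ,
        Equiv.prod_comp η fun k => (qOdd n F) (eb k : OddI n → F)]
      exact ((IsSquare.pow n (IsSquare.sq (2 : F))).mul hsq |>.mul hRsq) |> fun h => by rwa [← pow_mul] at h)
    rw [zeros_congr g' hg']
    show Nat.card {v : κ → F // D v = 0} = _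
    rw [← Nat.card_eq_fintype_card]
    exact Nat.card_congr (g.toEquiv.subtypeEquiv fun v => Iff.rfl)
  obtain ⟨m, rfl⟩ : ∃ m, n = m + 1 := ⟨n - 1, by omega⟩
  have hk := orderOf_natCast_pos (q := q) hr (not_dvd_card (p := p) hr hrp)
  have hpos : 1 ≤ q ^ m := Nat.one_le_pow _ _ hq1
  have hpos' : 1 ≤ q ^ (m + 1) := Nat.one_le_pow _ _ hq1
  have hex2 : q ^ (2 * m + 1) = q ^ (m + 1) * q ^ m := by rw [← pow_add]; ring_nf
  rcases pow_mod_four h2 (m + 1) with h4 | h4 <;> rw [← hqdef] at h4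
  · have hcard := hzeros (Fin (m + 1) ⊕ Fin (m + 1)) (qPlus (m + 1) F) (polarNondeg_qPlus _) (by simp; ring)
      (by rw [det_polarGram_qPlus]; exact (isSquare_neg_one_pow_iff h2 _).2 h4)
    rw [zeros_congr (plusLin (m + 1) F) (qPlus_plusLin (m + 1))] at hcard
    have hz0 := zeros_plus (F := F) m
    rw [hcard] at hz0
    have hd : r ∣ (q ^ (m + 1) - 1) * (q ^ m + 1) := by
      rw [← Int.natCast_dvd_natCast]
      have h1 : (r : ℤ) ∣ (Fintype.card S : ℤ) - 1 := (Nat.modEq_iff_dvd.1 hmod)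
      rw [hz0] at h1
      push_cast [Nat.cast_sub hpos']
      have e' : ((q : ℤ) ^ (m + 1) - 1) * ((q : ℤ) ^ m + 1) =
          (q : ℤ) ^ (2 * m + 1) + (q : ℤ) ^ (m + 1) - (q : ℤ) ^ m - 1 := by ring
      rw [e']
      exact h1
    rcases hcase with ⟨-, -, hno⟩ | ⟨ho, -⟩
    · exact hno (by omega)
    · rcases hr.dvd_mul.1 hd with h | h
      · rw [← orderOf_natCast_dvd_iff hq1, ho] at h
        have := Nat.le_of_dvd (by omega) h
        omega
      · have h' : r ∣ q ^ (2 * m) - 1 := by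
          rw [show q ^ (2 * m) - 1 = (q ^ m + 1) * (q ^ m - 1) by rw [← Nat.sq_sub_sq, one_pow, ← pow_mul, mul_comm]]
          exact h.mul_right _
        rw [← orderOf_natCast_dvd_iff hq1, ho] at h'
        have := Nat.le_of_dvd (by omega) h'
        omega
  · obtain ⟨t, ht⟩ : ∃ t, BinAniso (0 : F) t := by
      obtain ⟨ε, hε⟩ := FiniteField.exists_nonsquare (F := F) (fun h => h2 (by haveI := ringChar.of_eq h; exact CharTwo.two_eq_zero))
      refine ⟨-ε, fun z₁ z₂ hz => ?_⟩
      have h0 : z₂ = 0 := by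
        by_contra h
        exact hε ⟨z₁ / z₂, by field_simp; linear_combination -hz⟩
      subst h0
      exact ⟨pow_eq_zero_iff two_ne_zero |>.1 (by linear_combination hz), rfl⟩
    have hsqm : IsSquare (polarGram (qExt m (qBin (0 : F) t))).det :=
      (isSquare_det_polarGram_qExt_qBin h2 ht m).2 h4
    have hcard := hzeros ((Fin m ⊕ Fin m) ⊕ Fin 2) (qExt m (qBin (0 : F) t))
      (polarNondeg_qExt (polarNondeg_qBin ht) m) (by simp; ring) hsqm
    have hz0 := zeros_minus ht m
    rw [hcard] at hz0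
    rcases hcase with ⟨ho, -, -⟩ | ⟨-, hno⟩
    · have h1 : (r : ℤ) ∣ (Fintype.card S : ℤ) - 1 := (Nat.modEq_iff_dvd.1 hmod)
      rw [hz0] at h1
      have e' : ((q : ℤ) ^ (m + 1) + 1) * ((q : ℤ) ^ m - 1) =
          (q : ℤ) ^ (2 * m + 1) + (q : ℤ) ^ m - (q : ℤ) ^ (m + 1) - 1 := by ring
      rw [← e'] at h1
      have hd : r ∣ (q ^ (m + 1) + 1) * (q ^ m - 1) := by
        rw [← Int.natCast_dvd_natCast]
        push_cast [Nat.cast_sub hpos]
        exact h1
      rcases hr.dvd_mul.1 hd with h | h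
      · have h' : r ∣ q ^ (m + 1) - 1 := (orderOf_natCast_dvd_iff hq1).1 (ho ▸ dvd_rfl)
        have h'' := Nat.dvd_sub h h'
        rw [show q ^ (m + 1) + 1 - (q ^ (m + 1) - 1) = 2 by omega] at h''
        exact hr2 ((Nat.prime_dvd_prime_iff_eq hr Nat.prime_two).1 h'')
      · rw [← orderOf_natCast_dvd_iff hq1, ho] at h
        have := Nat.le_of_dvd (by omega) h
        omega
    · exact hno (by omega)

end CfsgLib.Spectra
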