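import Cfsg.Agent.Lib.KnownSimple.Spectra.SpAdjacency
import Cfsg.Agent.Lib.KnownSimple.Spectra.OddConstruct
import Cfsg.Agent.Lib.KnownSimple.Spectra.OddExclude

/-!
`PΩ(2n+1, q)` and `PSp(2n, q)` have the same prime graph.
-/

set_option autoImplicit false
set_option linter.style.haveILetI false

namespace CfsgLib.Spectra

open Matrix CfsgLib.Classical CfsgLib.KnownSimple CfsgLib.PrimeGraphPSL

variable {F : Type*} [Field F] [Fintype F] {n : ℕ}

local notation "𝕂" => AlgebraicClosure F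

/-- The half order of `q` modulo `r`. -/
noncomputable def etaOf (q r : ℕ) : ℕ :=
  if Odd (orderOf (q : ZMod r)) then orderOf (q : ZMod r) else orderOf (q : ZMod r) / 2

theorem etaOf_spec (q r : ℕ) :
    (Odd (orderOf (q : ZMod r)) ∧ etaOf q r = orderOf (q : ZMod r)) ∨
      (Even (orderOf (q : ZMod r)) ∧ 2 * etaOf q r = orderOf (q : ZMod r)) := by
  unfold etaOf
  split_ifs with h
  · exact Or.inl ⟨h, rfl⟩
  · rw [Nat.not_odd_iff_even] at h
    exact Or.inr ⟨h, Nat.mul_div_cancel' h.two_dvd⟩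

/-- A quarter turn exists in the torus of rank `η`. -/
def QuarterTurn (q r : ℕ) : Prop :=
  (Odd (orderOf (q : ZMod r)) ∧ 4 ∣ q ^ etaOf q r - 1) ∨ (Even (orderOf (q : ZMod r)) ∧ 4 ∣ q ^ etaOf q r + 1)

theorem exists_four_torus (h2 : (2 : F) ≠ 0) : 4 ∣ Fintype.card F ^ 1 - 1 ∨ 4 ∣ Fintype.card F ^ 1 + 1 := by
  rcases pow_mod_four h2 1 with h | h
  · exact Or.inl (by omega)
  · exact Or.inr (by omega)

theorem dvd_torus_eta {p : ℕ} [Fact p.Prime] [CharP F p] {r : ℕ} (hr : r.Prime) (hrp : r ≠ p) :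
    1 ≤ etaOf (Fintype.card F) r ∧
      (r ∣ Fintype.card F ^ etaOf (Fintype.card F) r - 1 ∨ r ∣ Fintype.card F ^ etaOf (Fintype.card F) r + 1) ∧
      (QuarterTurn (Fintype.card F) r → (4 * r) ∣ Fintype.card F ^ etaOf (Fintype.card F) r - 1 ∨
        (4 * r) ∣ Fintype.card F ^ etaOf (Fintype.card F) r + 1 ∨ r = 2) := by
  have hs := etaOf_spec (Fintype.card F) r
  have hη : 1 ≤ etaOf (Fintype.card F) r := eta_pos hr (not_dvd_card (p := p) hr hrp) hs
  obtain ⟨ho, he⟩ := dvd_torus_of_eta (F := F) hr hη odd_one hs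
  rw [mul_one] at ho he
  refine ⟨hη, (Nat.even_or_odd _).elim (fun h => Or.inr (he h)) fun h => Or.inl (ho h), fun hq => ?_⟩
  by_cases hr2 : r = 2
  · exact Or.inr (Or.inr hr2)
  have hcop : Nat.Coprime 4 r := by
    rw [show (4 : ℕ) = 2 ^ 2 from rfl]
    exact Nat.Coprime.pow_left 2 ((Nat.coprime_primes Nat.prime_two hr).2 (Ne.symm hr2))
  rcases hq with ⟨h, h4⟩ | ⟨h, h4⟩
  · exact Or.inl (hcop.mul_dvd_of_dvd_of_dvd h4 (ho h))
  · exact Or.inr (Or.inl (hcop.mul_dvd_of_dvd_of_dvd h4 (he h)))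

section Omega

/-- Powers of isometries. -/
theorem HasIso.dvd {d m k : ℕ} (h : HasIso F d m) (hk : k ∣ m) (hm : m ≠ 0) : HasIso F d k := by
  obtain ⟨Q, hQ, g, hg⟩ := h
  subst hg
  exact ⟨Q, hQ, g ^ (orderOf g / k), orderOf_pow_orderOf_div hm hk⟩

theorem hasIso_torus (h2 : (2 : F) ≠ 0) {η N : ℕ} (hη : 1 ≤ η)
    (h : N ∣ Fintype.card F ^ η - 1 ∨ N ∣ Fintype.card F ^ η + 1) : HasIso F (2 * η) N := by
  rcases h with h | h
  · refine (hasIso_split hη).dvd h ?_
    have : 1 < Fintype.card F ^ η := Nat.one_lt_pow (by omega) Fintype.one_lt_card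
    omega
  · exact (hasIso_minus h2 hη).dvd h (Nat.succ_ne_zero _)

theorem HasIso.pad (h2 : (2 : F) ≠ 0) {e m : ℕ} (h : HasIso F (2 * e) m) (he : e ≤ n) : HasIso F (2 * n + 1) m := by
  have := (h.add (hasIso_plus (F := F) (n - e))).add (hasIso_line h2)
  rw [Nat.lcm_one_right, Nat.lcm_one_right, show 2 * e + 2 * (n - e) + 1 = 2 * n + 1 by omega] at this
  exact this

theorem HasIso.pad_unipotent {p : ℕ} [Fact p.Prime] [CharP F p] (hp : p ≠ 2) {e m : ℕ}
    (h : HasIso F (2 * e) m) (he : e + 1 ≤ n) : HasIso F (2 * n + 1) (m.lcm p) := by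
  have := (h.add (hasIso_plus (F := F) (n - e - 1))).add (hasIso_unipotent hp)
  rw [Nat.lcm_one_right, show 2 * e + 2 * (n - e - 1) + 3 = 2 * n + 1 by omega] at this
  exact this

theorem exists_omega_of_pomega (h2 : (2 : F) ≠ 0) (hn : 3 ≤ n) {m : ℕ}
    (h : m ∈ Set.range (orderOf : Cfsg.POmega F (Cfsg.quadFormOdd n F) → ℕ)) :
    ∃ g : Cfsg.Omega F ⇑(qOdd n F), orderOf g = m := by
  rw [← coe_qOdd] at h
  obtain ⟨y, hy⟩ := h
  obtain ⟨g, rfl⟩ := QuotientGroup.mk'_surjective _ y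
  refine ⟨g, ?_⟩
  rw [← hy, orderOf_injective _ (by rw [← MonoidHom.ker_eq_bot_iff, QuotientGroup.ker_mk']; exact center_Omega_qOdd hn h2)]

variable {p : ℕ} [Fact p.Prime] [CharP F p]

theorem pomega_two_odd (h2 : (2 : F) ≠ 0) (hn : 3 ≤ n) {r : ℕ} (hr : r.Prime) (hr2 : r ≠ 2) (hrp : r ≠ p) :
    2 * r ∈ Set.range (orderOf : Cfsg.POmega F (Cfsg.quadFormOdd n F) → ℕ) ↔
      etaOf (Fintype.card F) r ≤ n - 1 ∨ (etaOf (Fintype.card F) r = n ∧ QuarterTurn (Fintype.card F) r) := by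
  have hs := etaOf_spec (Fintype.card F) r
  obtain ⟨hη, hdv, hquarter⟩ := dvd_torus_eta (F := F) (p := p) hr hrp
  constructor
  · intro h
    obtain ⟨g, hg⟩ := exists_omega_of_pomega h2 hn h
    by_contra hcon
    rw [not_or, not_le, not_and] at hcon
    have hb : orderOf (g ^ 2) = r := by
      rw [orderOf_pow_of_dvd two_ne_zero (hg ▸ dvd_mul_right 2 r), hg, Nat.mul_div_cancel_left _ two_pos]
    have hz : orderOf (g ^ r) = 2 := by
      rw [orderOf_pow_of_dvd hr.ne_zero (hg ▸ dvd_mul_left r 2), hg, Nat.mul_div_cancel _ hr.pos]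
    have hle : 2 * etaOf (Fintype.card F) r ≤ 2 * n + 1 :=
      two_eta_le (p := p) (by omega) (omegaGram_det h2) (omegaRep_gram (g ^ 2)) hr hr2 hrp
        (by rw [orderOf_injective _ omegaRep_injective, hb]) hs
    have hηn : etaOf (Fintype.card F) r = n := by omega
    have hq := hcon.2 hηn
    refine omega_no_involution (p := p) h2 (by omega) hr hr2 hrp ?_ (g ^ 2) (g ^ r) hb hz
      ((Commute.refl g).pow_pow _ _)
    unfold QuarterTurn at hq
    rw [hηn] at hq hs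
    rcases hs with ⟨ho, e⟩ | ⟨he, e⟩
    · exact Or.inl ⟨e.symm, e.symm ▸ ho, fun h4 => hq (Or.inl ⟨ho, h4⟩)⟩
    · exact Or.inr ⟨e.symm, fun h4 => hq (Or.inr ⟨he, h4⟩)⟩
  · intro h
    have hd : 4 * r / Nat.gcd (4 * r) 2 = 2 * r := by
      rw [Nat.gcd_eq_right ⟨2 * r, by ring⟩, show 4 * r = 2 * (2 * r) by ring, Nat.mul_div_cancel_left _ two_pos]
    rw [← hd]
    refine exists_pomega_sq h2 hn ?_
    rcases h with h | ⟨h, hq⟩
    · have h1 := (hasIso_torus h2 hη hdv).add (hasIso_torus h2 le_rfl (exists_four_torus h2))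
      rw [← mul_add, Nat.Coprime.lcm_eq_mul (by
        rw [show (4 : ℕ) = 2 ^ 2 from rfl]
        exact Nat.Coprime.pow_right 2 ((Nat.coprime_primes hr Nat.prime_two).2 hr2)), mul_comm r] at h1
      exact h1.pad h2 (by omega)
    · exact (hasIso_torus h2 hη ((hquarter hq).imp_right fun h' => h'.resolve_right hr2)).pad h2 h.le

theorem pomega_odd_char (h2 : (2 : F) ≠ 0) (hn : 3 ≤ n) {r : ℕ} (hr : r.Prime) (hr2 : r ≠ 2) (hrp : r ≠ p) :
    r * p ∈ Set.range (orderOf : Cfsg.POmega F (Cfsg.quadFormOdd n F) → ℕ) ↔ etaOf (Fintype.card F) r ≤ n - 1 := by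
  have hs := etaOf_spec (Fintype.card F) r
  obtain ⟨hη, hdv, -⟩ := dvd_torus_eta (F := F) (p := p) hr hrp
  have hpp : p.Prime := Fact.out
  have hp2 : p ≠ 2 := fun h => h2 (by subst h; exact CharP.cast_eq_zero F 2)
  constructor
  · intro h
    obtain ⟨g, hg⟩ := exists_omega_of_pomega h2 hn h
    by_contra hcon
    have hb : orderOf (g ^ p) = r := by
      rw [orderOf_pow_of_dvd hpp.ne_zero (hg ▸ dvd_mul_left p r), hg, Nat.mul_div_cancel _ hpp.pos]
    have hu : orderOf (g ^ r) = p := by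
      rw [orderOf_pow_of_dvd hr.ne_zero (hg ▸ dvd_mul_right r p), hg, Nat.mul_div_cancel_left _ hr.pos]
    have h1 := iso_no_commuting_unipotent (p := p) (U := omegaRep (g ^ r)) (omegaGram_det h2) (omegaRep_gram (g ^ p))
      (n := n) (by omega) (Or.inr ⟨rfl, omegaRep_det _, h2⟩) hr hr2 hrp
      (by rw [orderOf_injective _ omegaRep_injective, hb]) (by omega) hs
      (((Commute.refl g).pow_pow _ _).map omegaRep)
      (by rw [← map_pow, orderOf_dvd_iff_pow_eq_one.1 hu.dvd, map_one])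
    have h3 : g ^ r = 1 := omegaRep_injective (h1.trans (map_one omegaRep).symm)
    rw [h3, orderOf_one] at hu
    exact hpp.ne_one hu.symm
  · intro h
    have hd : r * p / Nat.gcd (r * p) 2 = r * p := by
      rw [((Nat.coprime_two_right).2 ((hr.odd_of_ne_two hr2).mul (hpp.odd_of_ne_two hp2))).gcd_eq_one, Nat.div_one]
    rw [← hd]
    refine exists_pomega_sq h2 hn ?_
    have h1 := (hasIso_torus h2 hη hdv).pad_unipotent (n := n) hp2 (by omega)
    rwa [((Nat.coprime_primes hr hpp).2 hrp).lcm_eq_mul] at h1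

theorem pomega_two_char (h2 : (2 : F) ≠ 0) (hn : 3 ≤ n) :
    2 * p ∈ Set.range (orderOf : Cfsg.POmega F (Cfsg.quadFormOdd n F) → ℕ) := by
  have hpp : p.Prime := Fact.out
  have hp2 : p ≠ 2 := fun h => h2 (by subst h; exact CharP.cast_eq_zero F 2)
  have hd : 4 * p / Nat.gcd (4 * p) 2 = 2 * p := by
    rw [Nat.gcd_eq_right ⟨2 * p, by ring⟩, show 4 * p = 2 * (2 * p) by ring, Nat.mul_div_cancel_left _ two_pos]
  rw [← hd]
  refine exists_pomega_sq h2 hn ?_
  have h1 := (hasIso_torus h2 le_rfl (exists_four_torus h2)).pad_unipotent (n := n) hp2 (by omega)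
  rwa [Nat.Coprime.lcm_eq_mul (by
    rw [show (4 : ℕ) = 2 ^ 2 from rfl]
    exact Nat.Coprime.pow_left 2 ((Nat.coprime_primes Nat.prime_two hpp).2 (Ne.symm hp2)))] at h1

theorem pomega_odd_odd (h2 : (2 : F) ≠ 0) (hn : 3 ≤ n) {r s : ℕ} (hr : r.Prime) (hs : s.Prime) (hr2 : r ≠ 2)
    (hs2 : s ≠ 2) (hrp : r ≠ p) (hsp : s ≠ p) (hrs : r ≠ s)
    (hkl : etaOf (Fintype.card F) r ≤ etaOf (Fintype.card F) s) :
    r * s ∈ Set.range (orderOf : Cfsg.POmega F (Cfsg.quadFormOdd n F) → ℕ) ↔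
      etaOf (Fintype.card F) r + etaOf (Fintype.card F) s ≤ n ∨ (etaOf (Fintype.card F) s ≤ n ∧
        ∃ t : ℕ, Odd t ∧ orderOf ((Fintype.card F : ℕ) : ZMod s) = orderOf ((Fintype.card F : ℕ) : ZMod r) * t) := by
  obtain ⟨hηr, hdr, -⟩ := dvd_torus_eta (F := F) (p := p) hr hrp
  obtain ⟨hηs, hds, -⟩ := dvd_torus_eta (F := F) (p := p) hs hsp
  have hcop := (Nat.coprime_primes hr hs).2 hrs
  constructor
  · intro h
    obtain ⟨g, hg⟩ := exists_omega_of_pomega h2 hn h
    exact iso_order_mul_cases (p := p) (omegaGram_det h2) (omegaRep_gram g) (by omega) le_rfl hr hs hr2 hs2 hrp hsp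
      hrs rfl rfl (etaOf_spec _ r) (etaOf_spec _ s) hkl (by rw [orderOf_injective _ omegaRep_injective, hg])
  · intro h
    have hd : r * s / Nat.gcd (r * s) 2 = r * s := by
      rw [((Nat.coprime_two_right).2 ((hr.odd_of_ne_two hr2).mul (hs.odd_of_ne_two hs2))).gcd_eq_one, Nat.div_one]
    rw [← hd]
    refine exists_pomega_sq h2 hn ?_
    rcases h with h | ⟨hsn, t, ht, hlt⟩
    · have h1 := (hasIso_torus h2 hηr hdr).add (hasIso_torus h2 hηs hds)
      rw [← mul_add, hcop.lcm_eq_mul] at h1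
      exact h1.pad h2 h
    · obtain ⟨hort, hert⟩ := dvd_torus_of_eta (F := F) hr hηr ht (etaOf_spec _ r)
      obtain ⟨hos, hes⟩ := dvd_torus_of_eta (F := F) hs hηs odd_one (etaOf_spec _ s)
      rw [mul_one] at hos hes
      refine (hasIso_torus h2 hηs ?_).pad h2 hsn
      rcases etaOf_spec (Fintype.card F) r with ⟨ho, e⟩ | ⟨he, e⟩
      · have hlo : Odd (orderOf ((Fintype.card F : ℕ) : ZMod s)) := hlt ▸ ho.mul ht
        have e' : etaOf (Fintype.card F) s = etaOf (Fintype.card F) r * t := by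
          rcases etaOf_spec (Fintype.card F) s with ⟨-, e'⟩ | ⟨he', -⟩
          · rw [e', hlt, e]
          · exact absurd he' (Nat.not_even_iff_odd.2 hlo)
        exact Or.inl (hcop.mul_dvd_of_dvd_of_dvd (e' ▸ hort ho) (hos hlo))
      · have hle : Even (orderOf ((Fintype.card F : ℕ) : ZMod s)) := hlt ▸ he.mul_right t
        have e' : etaOf (Fintype.card F) s = etaOf (Fintype.card F) r * t := by
          rcases etaOf_spec (Fintype.card F) s with ⟨ho', -⟩ | ⟨-, e'⟩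
          · exact absurd hle (Nat.not_even_iff_odd.2 ho')
          · exact Nat.eq_of_mul_eq_mul_left two_pos (by rw [e', hlt, ← e, mul_assoc])
        exact Or.inr (hcop.mul_dvd_of_dvd_of_dvd (e' ▸ hert he) (hes hle))

end Omega

section Sp

/-- An element of `Sp` with a quarter-turn gives half its order in `PSp`. -/
theorem psp_range_of_four {m : ℕ} (h : symplecticGroup (Fin n) F) (hh : orderOf h = 4 * m) (hm : m ≠ 0) :
    2 * m ∈ Set.range (orderOf : Cfsg.PSp n F → ℕ) := by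
  have h1 : 2 * m ∣ orderOf (spMk h) := by
    have h2 : h ^ (orderOf (spMk h) * 2) = 1 := by
      refine Subtype.ext ?_
      rw [SubmonoidClass.coe_pow, pow_mul]
      rcases (spMk_pow_eq_one_iff h _).1 (pow_orderOf_eq_one (spMk h)) with e | e <;> rw [e] <;> simp
    have h3 := orderOf_dvd_of_pow_eq_one h2
    rw [hh, show 4 * m = 2 * m * 2 by ring] at h3
    exact Nat.dvd_of_mul_dvd_mul_right two_pos h3
  have : 0 < orderOf (spMk h) := orderOf_pos _
  exact ⟨spMk h ^ (orderOf (spMk h) / (2 * m)), orderOf_pow_orderOf_div this.ne' h1⟩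

/-- The symplectic Gram matrix on `Fin (n + n)`. -/
def spGram (F : Type*) [Field F] (n : ℕ) : Matrix (Fin (n + n)) (Fin (n + n)) F :=
  Matrix.reindexAlgEquiv F F (finSumFinEquiv (m := n) (n := n)) (Matrix.J (Fin n) F)

omit [Fintype F] in
theorem spGram_det : (spGram F n).det ≠ 0 := by
  rw [spGram, Matrix.det_reindexAlgEquiv]
  exact ((Matrix.isUnit_iff_isUnit_det _).1 ⟨⟨Matrix.J (Fin n) F, -Matrix.J (Fin n) F,
    by rw [mul_neg, Matrix.J_squared, neg_neg], by rw [neg_mul, Matrix.J_squared, neg_neg]⟩, rfl⟩).ne_zero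

omit [Fintype F] in
theorem spFin_gram (g : symplecticGroup (Fin n) F) : (spFin g)ᵀ * spGram F n * spFin g = spGram F n := by
  show (Matrix.reindexAlgEquiv F F finSumFinEquiv g.1)ᵀ * _ * Matrix.reindexAlgEquiv F F finSumFinEquiv g.1 = _
  rw [spGram, Matrix.coe_reindexAlgEquiv, transpose_reindex, ← Matrix.coe_reindexAlgEquiv F F, ← map_mul, ← map_mul,
    SymplecticGroup.mem_iff'.1 g.2]

variable {p : ℕ} [Fact p.Prime] [CharP F p]

theorem psp_two_odd (h2 : (2 : F) ≠ 0) (hn : 2 ≤ n) {r : ℕ} (hr : r.Prime) (hr2 : r ≠ 2) (hrp : r ≠ p) :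
    2 * r ∈ Set.range (orderOf : Cfsg.PSp n F → ℕ) ↔
      etaOf (Fintype.card F) r ≤ n - 1 ∨ (etaOf (Fintype.card F) r = n ∧ QuarterTurn (Fintype.card F) r) := by
  classical
  have hs := etaOf_spec (Fintype.card F) r
  obtain ⟨hη, hdv, hquarter⟩ := dvd_torus_eta (F := F) (p := p) hr hrp
  constructor
  · rintro ⟨y, hy⟩
    obtain ⟨g, rfl⟩ := QuotientGroup.mk'_surjective _ y
    change orderOf (spMk g) = 2 * r at hy
    by_contra hcon
    rw [not_or, not_le, not_and] at hcon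
    have hg4r : (spFin g) ^ (4 * r) = 1 := by
      rw [← map_pow]
      have : g ^ (4 * r) = 1 := Subtype.ext (by
        rw [SubmonoidClass.coe_pow, show 4 * r = 2 * r * 2 by ring, pow_mul]
        rcases (spMk_pow_eq_one_iff g (2 * r)).1 (hy ▸ pow_orderOf_eq_one (spMk g)) with e | e <;> rw [e] <;> simp)
      rw [this, map_one]
    haveI : Fact r.Prime := ⟨hr⟩
    have hb : orderOf (spFin (g ^ 4)) = r := by
      refine orderOf_eq_prime (by rw [map_pow, ← pow_mul, hg4r]) fun h => ?_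
      have h' : g ^ 4 = 1 := spFin_injective (h.trans (map_one spFin).symm)
      have h'' : orderOf (spMk g) ∣ 4 := orderOf_dvd_of_pow_eq_one (by rw [← map_pow, h', map_one])
      rw [hy, show (4 : ℕ) = 2 * 2 from rfl] at h''
      exact hr2 ((Nat.prime_dvd_prime_iff_eq hr Nat.prime_two).1 (Nat.dvd_of_mul_dvd_mul_left two_pos h''))
    have hle := two_eta_le (p := p) (show 1 ≤ n + n by omega) spGram_det (spFin_gram (g ^ 4)) hr hr2 hrp hb hs
    have hηn : etaOf (Fintype.card F) r = n := by omega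
    have hq := hcon.2 hηn
    obtain ⟨hnd, x, hx, hxr, hroots⟩ := nodup_mRoots (p := p) spGram_det (spFin_gram (g ^ 4)) (n := n) (by omega)
      (Or.inl (two_mul n).symm) hr hr2 hrp hb (by omega) hs
    unfold QuarterTurn at hq
    rw [hηn] at hq hs
    obtain ⟨c, hc1, hsign⟩ := eigen_function_sign (p := p) spGram_det (spFin_gram (g ^ 4)) (spFin_gram (g ^ r))
      (((Commute.refl g).pow_pow _ _).map spFin) (by rw [map_pow, ← pow_mul, mul_comm, hg4r]) hnd hr hrp
      (odd_card_of_two_ne_zero h2) (show 1 ≤ n by omega) (by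
        rcases hs with ⟨ho, e⟩ | ⟨he, e⟩
        · exact Or.inl ⟨e.symm, e.symm ▸ ho, fun h4 => hq (Or.inl ⟨ho, h4⟩)⟩
        · exact Or.inr ⟨e.symm, fun h4 => hq (Or.inr ⟨he, h4⟩)⟩) hx hxr
    let φ : Matrix (Fin (n + n)) (Fin (n + n)) F →+* Matrix (Fin (n + n)) (Fin (n + n)) 𝕂 :=
      (algebraMap F 𝕂).mapMatrix
    obtain ⟨ι, _, _, l, bK, -, hmem, hbK⟩ := exists_eigenbasis hnd
    have hscal : spFin (g ^ r) = c • 1 := by
      refine Matrix.map_injective (algebraMap F 𝕂).injective ?_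
      have hsmul : φ (c • 1) = algebraMap F 𝕂 c • 1 := by
        ext a d
        by_cases h : a = d <;> simp [φ, h]
      show φ _ = φ _
      rw [hsmul]
      refine (Matrix.toLinAlgEquiv' (R := 𝕂)).injective (bK.ext fun i => ?_)
      rw [Matrix.toLinAlgEquiv'_apply, Matrix.toLinAlgEquiv'_apply, Matrix.smul_mulVec, Matrix.one_mulVec]
      rcases hroots (l i) ((hmem _).2 ⟨i, rfl⟩) with ⟨-, h⟩ | ⟨j, hj⟩
      · omega
      · exact hsign _ j _ hj (hbK i)
    have hrr : spMk g ^ r = 1 := by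
      refine (spMk_pow_eq_one_iff g r).2 ?_
      have hinj := (Matrix.reindexAlgEquiv F F (finSumFinEquiv (m := n) (n := n))).injective
      rcases hc1 with rfl | rfl
      · left
        refine hinj ?_
        rw [map_one, ← SubmonoidClass.coe_pow]
        exact hscal.trans (one_smul _ _)
      · right
        refine hinj ?_
        rw [map_neg, map_one, ← SubmonoidClass.coe_pow]
        exact hscal.trans (neg_one_smul _ _)
    have := Nat.le_of_dvd hr.pos (hy ▸ orderOf_dvd_of_pow_eq_one hrr)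
    have := hr.pos
    omega
  · intro h
    rcases h with h | ⟨h, hq⟩
    · obtain ⟨Y, hY⟩ := exists_sp_of_dvd (F := F) hη hdv
      obtain ⟨T, hT⟩ := exists_sp_of_dvd (F := F) le_rfl (exists_four_torus h2)
      have hc : (orderOf T).Coprime (orderOf Y) := by
        rw [hT, hY, show (4 : ℕ) = 2 ^ 2 from rfl]
        exact Nat.Coprime.pow_left 2 ((Nat.coprime_primes Nat.prime_two hr).2 (Ne.symm hr2))
      obtain ⟨W, hW⟩ := exists_sp_sum (n := n) (show 1 + etaOf (Fintype.card F) r ≤ n by omega) T Y hc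
      exact psp_range_of_four W (by rw [hW, hT, hY]) hr.ne_zero
    · obtain ⟨Y, hY⟩ := exists_sp_of_dvd (F := F) hη ((hquarter hq).imp_right fun h' => h'.resolve_right hr2)
      obtain ⟨W, hW⟩ := exists_sp_embed (n := n) h.le Y
      exact psp_range_of_four W (hW.trans hY) hr.ne_zero

theorem psp_two_char (h2 : (2 : F) ≠ 0) (hn : 2 ≤ n) : 2 * p ∈ Set.range (orderOf : Cfsg.PSp n F → ℕ) := by
  have hpp : p.Prime := Fact.out
  have hp2 : p ≠ 2 := fun h => h2 (by subst h; exact CharP.cast_eq_zero F 2)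
  obtain ⟨U, hU⟩ := exists_sp_transvection (F := F) (p := p)
  obtain ⟨T, hT⟩ := exists_sp_of_dvd (F := F) le_rfl (exists_four_torus h2)
  have hc : (orderOf T).Coprime (orderOf U) := by
    rw [hT, hU, show (4 : ℕ) = 2 ^ 2 from rfl]
    exact Nat.Coprime.pow_left 2 ((Nat.coprime_primes Nat.prime_two hpp).2 (Ne.symm hp2))
  obtain ⟨W, hW⟩ := exists_sp_sum (n := n) hn T U hc
  exact psp_range_of_four W (by rw [hW, hT, hU]) hpp.ne_zero

theorem psp_odd_odd (hn : 2 ≤ n) {r s : ℕ} (hr : r.Prime) (hs : s.Prime) (hr2 : r ≠ 2) (hs2 : s ≠ 2) (hrp : r ≠ p)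
    (hsp : s ≠ p) (hrs : r ≠ s) (hkl : etaOf (Fintype.card F) r ≤ etaOf (Fintype.card F) s) :
    r * s ∈ Set.range (orderOf : Cfsg.PSp n F → ℕ) ↔
      etaOf (Fintype.card F) r + etaOf (Fintype.card F) s ≤ n ∨ (etaOf (Fintype.card F) s ≤ n ∧
        ∃ t : ℕ, Odd t ∧ orderOf ((Fintype.card F : ℕ) : ZMod s) = orderOf ((Fintype.card F : ℕ) : ZMod r) * t) := by
  have hkey := fun hsG => psp_order_mul_iff (F := F) (p := p) (n := n) (by omega) hr hs hr2 hs2 hrp hsp hrs hsG rfl rfl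
    (etaOf_spec _ r) (etaOf_spec _ s) hkl
  have hG : etaOf (Fintype.card F) s ≤ n → s ∣ Nat.card (Cfsg.PSp n F) := fun h => by
    obtain ⟨hη, hdv, -⟩ := dvd_torus_eta (F := F) (p := p) hs hsp
    obtain ⟨Y, hY⟩ := exists_sp_of_dvd (F := F) hη hdv
    obtain ⟨W, hW⟩ := exists_sp_embed (n := n) h Y
    have h1 := orderOf_dvd_natCard (spMk W)
    rwa [exists_psp_of_sp (by omega) W (Or.inl ((hW.trans hY).symm ▸ hs.odd_of_ne_two hs2)), hW, hY] at h1
  constructor
  · intro h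
    obtain ⟨y, hy⟩ := h
    have hsG : s ∣ Nat.card (Cfsg.PSp n F) := (dvd_mul_left s r).trans (hy ▸ orderOf_dvd_natCard y)
    rcases (hkey hsG).1 ⟨y, hy⟩ with h | h
    · exact Or.inl h
    · exact Or.inr ⟨eta_le_of_dvd_card (p := p) hs hsp (etaOf_spec _ s) hsG, h⟩
  · intro h
    have hsn : etaOf (Fintype.card F) s ≤ n := h.elim (fun h => by omega) fun h => h.1
    exact (hkey (hG hsn)).2 (h.imp_right fun h => h.2)

end Sp

/-- The prime graphs of `PΩ(2n+1, q)` and `PSp(2n, q)` coincide. -/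
theorem bc_prime_graph (h2 : (2 : F) ≠ 0) (hn : 3 ≤ n) {r s : ℕ} (hr : r.Prime) (hs : s.Prime) (hrs : r ≠ s) :
    r * s ∈ Set.range (orderOf : Cfsg.POmega F (Cfsg.quadFormOdd n F) → ℕ) ↔
      r * s ∈ Set.range (orderOf : Cfsg.PSp n F → ℕ) := by
  obtain ⟨p, hp⟩ := CharP.exists F
  haveI : Fact p.Prime := ⟨CharP.char_is_prime F p⟩
  have hp2 : p ≠ 2 := fun h => h2 (by subst h; exact CharP.cast_eq_zero F 2)
  have hchar : ∀ t : ℕ, t.Prime → t ≠ 2 → t ≠ p →
      (t * p ∈ Set.range (orderOf : Cfsg.POmega F (Cfsg.quadFormOdd n F) → ℕ) ↔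
        t * p ∈ Set.range (orderOf : Cfsg.PSp n F → ℕ)) := fun t ht ht2 htp => by
    rw [pomega_odd_char (p := p) h2 hn ht ht2 htp,
      psp_order_mul_char_iff (F := F) (p := p) (n := n) (by omega) ht ht2 htp rfl (etaOf_spec _ t)]
  have htwo : ∀ t : ℕ, t.Prime → t ≠ 2 →
      (2 * t ∈ Set.range (orderOf : Cfsg.POmega F (Cfsg.quadFormOdd n F) → ℕ) ↔
        2 * t ∈ Set.range (orderOf : Cfsg.PSp n F → ℕ)) := fun t ht ht2 => by
    by_cases htp : t = p
    · subst htp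
      exact iff_of_true (pomega_two_char h2 hn) (psp_two_char h2 (by omega))
    · rw [pomega_two_odd (p := p) h2 hn ht ht2 htp, psp_two_odd (p := p) h2 (by omega) ht ht2 htp]
  by_cases hr2 : r = 2
  · subst hr2
    exact htwo s hs (Ne.symm hrs)
  by_cases hs2 : s = 2
  · subst hs2
    rw [mul_comm]
    exact htwo r hr hr2
  by_cases hrp : r = p
  · subst hrp
    rw [mul_comm]
    exact hchar s hs hs2 (Ne.symm hrs)
  by_cases hsp : s = p
  · subst hsp
    exact hchar r hr hr2 hrp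
  rcases le_total (etaOf (Fintype.card F) r) (etaOf (Fintype.card F) s) with h | h
  · rw [pomega_odd_odd (p := p) h2 hn hr hs hr2 hs2 hrp hsp hrs h,
      psp_odd_odd (p := p) (by omega) hr hs hr2 hs2 hrp hsp hrs h]
  · rw [mul_comm r s, pomega_odd_odd (p := p) h2 hn hs hr hs2 hr2 hsp hrp (Ne.symm hrs) h,
      psp_odd_odd (p := p) (by omega) hs hr hs2 hr2 hsp hrp (Ne.symm hrs) h]

end CfsgLib.Spectra
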