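import Cfsg.Agent.Lib.KnownSimple.Unitary.Spectrum3
import Cfsg.Agent.Lib.PrimeGraphPSL.Basic

/-!
The element orders of `PSL(3, q)`.
-/

set_option autoImplicit false
set_option linter.style.haveILetI false

namespace CfsgLib.Spectra

open Matrix Polynomial CfsgLib.UnitarySpec CfsgLib.KnownSimple CfsgLib.PrimeGraphPSL

variable {F : Type*} [Field F] [Fintype F]

theorem psl_frobenius_roots {p a : ℕ} [Fact p.Prime] [CharP F p] (hq : Fintype.card F = p ^ a) {n : ℕ}
    (A : Matrix (Fin n) (Fin n) F) :
    ((A.map (algebraMap F (AlgebraicClosure F))).charpoly.roots.map fun x => x ^ Fintype.card F) =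
      (A.map (algebraMap F (AlgebraicClosure F))).charpoly.roots := by
  set K := AlgebraicClosure F
  haveI : CharP K p := charP_of_injective_algebraMap (algebraMap F K).injective p
  haveI : ExpChar K p := ExpChar.prime Fact.out
  let ψ : K →+* K := iterateFrobenius K p a
  have hψ : ∀ x : K, ψ x = x ^ Fintype.card F := fun x => by rw [iterateFrobenius_def, hq]
  have h1 : (A.map (algebraMap F K)).map ψ = A.map (algebraMap F K) := by
    ext i j
    simp only [Matrix.map_apply, hψ]
    rw [← map_pow, FiniteField.pow_card]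
  have h2 := (IsAlgClosed.splits (A.map (algebraMap F K)).charpoly).roots_map ψ
  rw [← Matrix.charpoly_map, h1] at h2
  exact (h2.trans (Multiset.map_congr rfl fun x _ => hψ x)).symm

/-- The element orders of `PSL(3, q)` divide one of five numbers. -/
theorem psl3_order_dvd {p a : ℕ} [Fact p.Prime] [CharP F p] (hq : Fintype.card F = p ^ a)
    (g : Matrix.SpecialLinearGroup (Fin 3) F) :
    orderOf (pslMk g) ∣ (Fintype.card F ^ 2 + Fintype.card F + 1) / Nat.gcd 3 (Fintype.card F - 1) ∨
      orderOf (pslMk g) ∣ (Fintype.card F ^ 2 - 1) / Nat.gcd 3 (Fintype.card F - 1) ∨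
      orderOf (pslMk g) ∣ Fintype.card F - 1 ∨
      orderOf (pslMk g) ∣ p * (Fintype.card F - 1) / Nat.gcd 3 (Fintype.card F - 1) ∨
      (p = 2 ∧ orderOf (pslMk g) ∣ 4) := by
  classical
  have hinvol := psl_frobenius_roots hq (g : Matrix (Fin 3) (Fin 3) F)
  set q := Fintype.card F with hqdef
  have hq2 : 2 ≤ q := Fintype.one_lt_card
  set K := AlgebraicClosure F
  haveI : CharP K p := charP_of_injective_algebraMap (algebraMap F K).injective p
  haveI : ExpChar K p := ExpChar.prime Fact.out
  set A := (g : Matrix (Fin 3) (Fin 3) F) with hA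
  set Λ := (A.map (algebraMap F K)).charpoly.roots with hΛ
  have hcard : Multiset.card Λ = 3 := by
    rw [hΛ, IsAlgClosed.card_roots_eq_natDegree, Matrix.charpoly_natDegree_eq_dim, Fintype.card_fin]
  have hprod : Λ.prod = 1 := by
    rw [hΛ, ← det_eq_prod_roots_charpoly]
    show ((algebraMap F K).mapMatrix A).det = 1
    rw [← RingHom.map_det, show A.det = 1 from g.2, map_one]
  let τ : K → K := fun x => x ^ q
  have hτ : Λ.map τ = Λ := hinvol
  have hτinj : Function.Injective τ := fun x y h => (iterateFrobenius K p a).injective (by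
    rw [iterateFrobenius_def, iterateFrobenius_def, ← hq]; exact h)
  have hmem : ∀ x ∈ Λ, τ x ∈ Λ := fun x hx => hτ ▸ Multiset.mem_map_of_mem τ hx
  have hne : ∀ x ∈ Λ, x ≠ 0 := fun x hx h0 => by
    rw [Multiset.prod_eq_zero (h0 ▸ hx)] at hprod
    exact zero_ne_one hprod
  set d := Nat.gcd 3 (q - 1) with hd
  obtain ⟨e, he⟩ : d ∣ q - 1 := Nat.gcd_dvd_right _ _
  have hd3 : d = 1 ∨ d = 3 := (Nat.dvd_prime Nat.prime_three).1 (Nat.gcd_dvd_left 3 (q - 1))
  have hdpos : 0 < d := by omega
  have hepos : 0 < e := Nat.pos_of_ne_zero fun h => by rw [h, mul_zero] at he; omega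
  have hfin : ∀ k, k ≠ 0 → Λ.Nodup → (∃ C : F, ∀ x ∈ Λ, x ^ k = algebraMap F K C) →
      orderOf (pslMk g) ∣ k := fun k hk hnd ⟨C, hC⟩ =>
    orderOf_dvd_of_pow_eq_one ((pslMk_pow_eq_one_iff g k).2 ⟨C, pow_eq_scalar_of_nodup A hk C hnd hC⟩)
  by_cases hex : ∃ x ∈ Λ, τ x = x
  · obtain ⟨c, hc, hcτ⟩ := hex
    obtain ⟨Λ', hΛ'⟩ := Multiset.exists_cons_of_mem hc
    have hcard' : Multiset.card Λ' = 2 := by rw [hΛ', Multiset.card_cons] at hcard; omega
    obtain ⟨u, v, huv⟩ := Multiset.card_eq_two.1 hcard'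
    have hΛe : Λ = c ::ₘ u ::ₘ {v} := by rw [hΛ', huv]; rfl
    have hu : u ∈ Λ := by rw [hΛe]; simp
    have hv : v ∈ Λ := by rw [hΛe]; simp
    have huvc : c * (u * v) = 1 := by rw [← hprod, hΛe]; simp
    by_cases hfix : τ u = u
    · have hvτ : τ v = v := by
        have h := hτ
        rw [hΛe, Multiset.map_cons, Multiset.map_cons, Multiset.map_singleton, hcτ, hfix,
          Multiset.cons_inj_right, Multiset.cons_inj_right, Multiset.singleton_inj] at h
        exact h
      have hq1 : ∀ x ∈ Λ, x ^ (q - 1) = 1 := by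
        intro x hx
        have hxτ : x ^ q = x := by
          rw [hΛe] at hx
          simp only [Multiset.mem_cons, Multiset.mem_singleton] at hx
          rcases hx with rfl | rfl | rfl <;> assumption
        have h0 := hne x hx
        rw [show x ^ q = x ^ (q - 1) * x by rw [← pow_succ, Nat.sub_add_cancel (by omega : 1 ≤ q)]] at hxτ
        exact (mul_eq_right₀ h0).1 hxτ
      by_cases hnd : Λ.Nodup
      · exact Or.inr (Or.inr (Or.inl (hfin (q - 1) (by omega) hnd ⟨1, fun x hx => by rw [hq1 x hx, map_one]⟩)))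
      obtain ⟨r, hr⟩ : ∃ r, Λ = r ::ₘ r ::ₘ {(r * r)⁻¹} := by
        rw [hΛe] at hnd ⊢
        simp only [Multiset.nodup_cons, Multiset.mem_cons, Multiset.mem_singleton, Multiset.nodup_singleton,
          and_true, not_and_or, not_not, not_or] at hnd
        rcases hnd with (h | h) | h
        · subst h
          exact ⟨c, by rw [eq_inv_of_mul_eq_one_right (show c * c * v = 1 by rw [← huvc]; ring)]⟩
        · subst h
          refine ⟨c, ?_⟩
          rw [← eq_inv_of_mul_eq_one_right (show c * c * u = 1 by rw [← huvc]; ring)]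
          exact congrArg (c ::ₘ ·) (Multiset.cons_swap u c 0)
        · subst h
          refine ⟨u, ?_⟩
          rw [← eq_inv_of_mul_eq_one_right (show u * u * c = 1 by rw [← huvc]; ring)]
          rw [Multiset.cons_swap c u]
          exact congrArg (u ::ₘ ·) (Multiset.cons_swap c u 0)
      have hrΛ : r ∈ Λ := by rw [hr]; simp
      obtain ⟨R, hR⟩ := mem_range_of_pow_card r (by
        rw [← hqdef, show r ^ q = r ^ (q - 1) * r by rw [← pow_succ, Nat.sub_add_cancel (by omega : 1 ≤ q)],
          hq1 r hrΛ, one_mul])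
      have hr3 : r ^ (e * 3) = 1 := by
        rcases hd3 with h | h
        · rw [h, one_mul] at he
          rw [pow_mul, ← he, hq1 r hrΛ, one_pow]
        · rw [h, mul_comm] at he
          rw [← he, hq1 r hrΛ]
      have hall : ∀ x ∈ Λ, x ^ e = algebraMap F K (R ^ e) := by
        intro x hx
        rw [map_pow, hR]
        rw [hr] at hx
        simp only [Multiset.mem_cons, Multiset.mem_singleton] at hx
        rcases hx with rfl | rfl | rfl
        · rfl
        · rfl
        · rw [inv_pow]
          exact inv_eq_of_mul_eq_one_right (by rw [← hr3, pow_mul]; ring)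
      haveI : CharP (Matrix (Fin 3) (Fin 3) F) p :=
        charP_of_injective_algebraMap (algebraMap F (Matrix (Fin 3) (Fin 3) F)).injective p
      have hp2 : 2 ≤ p := (Fact.out : p.Prime).two_le
      by_cases h4 : p = 2 ∧ (r * r)⁻¹ = r
      · -- one eigenvalue in characteristic two
        obtain ⟨h2, hrr⟩ := h4
        refine Or.inr (Or.inr (Or.inr (Or.inr ⟨h2, ?_⟩)))
        have hnil := aeval_pow_eq_zero_of_roots (K := K) A (X - Polynomial.C R) fun x hx => by
          replace hx : x ∈ Λ := hx
          rw [hr, hrr] at hx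
          simp only [Multiset.mem_cons, Multiset.mem_singleton, or_self] at hx
          rw [map_sub, aeval_X, aeval_C, hR, hx, sub_self]
        rw [map_sub, aeval_X, aeval_C] at hnil
        have h := pow_eq_zero_of_le (show 3 ≤ p ^ 2 by rw [h2]; norm_num) hnil
        rw [sub_pow_char_pow_of_commute p _ (Algebra.commutes' (R := F) _ _).symm, sub_eq_zero, ← map_pow,
          Algebra.algebraMap_eq_smul_one, h2] at h
        exact orderOf_dvd_of_pow_eq_one ((pslMk_pow_eq_one_iff g 4).2 ⟨_, h⟩)
      have hdiv : A.charpoly ∣ (X ^ e - Polynomial.C (R ^ e)) ^ p := by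
        rw [← Polynomial.map_dvd_map' (algebraMap F K), ← Matrix.charpoly_map, Polynomial.map_pow,
          (IsAlgClosed.splits (A.map (algebraMap F K)).charpoly).eq_prod_roots_of_monic (Matrix.charpoly_monic _),
          ← hΛ, hr]
        have hroot : ∀ x ∈ Λ, X - Polynomial.C x ∣ (X ^ e - Polynomial.C (R ^ e)).map (algebraMap F K) := by
          intro x hx
          rw [dvd_iff_isRoot, IsRoot, eval_map_algebraMap, map_sub, map_pow, aeval_X, aeval_C, hall x hx, sub_self]
        have ha := hroot r hrΛ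
        have hb := hroot (r * r)⁻¹ (by rw [hr]; simp)
        simp only [Multiset.map_cons, Multiset.map_singleton, Multiset.prod_cons, Multiset.prod_singleton]
        by_cases hrr : (r * r)⁻¹ = r
        · have hp3 : 3 ≤ p := by
            rcases Nat.lt_or_ge p 3 with h | h
            · exact absurd ⟨by omega, hrr⟩ h4
            · exact h
          rw [hrr]
          refine Dvd.dvd.trans ?_ (pow_dvd_pow _ hp3)
          rw [pow_three]
          exact mul_dvd_mul ha (mul_dvd_mul ha ha)
        · refine Dvd.dvd.trans ?_ (pow_dvd_pow _ hp2)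
          rw [pow_two]
          refine mul_dvd_mul ha ?_
          exact (isCoprime_X_sub_C_of_isUnit_sub (isUnit_iff_ne_zero.2 (sub_ne_zero.2 (Ne.symm hrr)))).mul_dvd ha hb
      obtain ⟨P, hP⟩ := hdiv
      have h := congrArg (Polynomial.aeval A) hP
      rw [map_mul, Matrix.aeval_self_charpoly, zero_mul, map_pow, map_sub, map_pow, aeval_X, aeval_C,
        sub_pow_char_of_commute p (Algebra.commutes' (R := F) _ _).symm, sub_eq_zero, ← map_pow,
        Algebra.algebraMap_eq_smul_one, ← pow_mul, mul_comm e p] at h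
      refine Or.inr (Or.inr (Or.inr (Or.inl ?_)))
      rw [he, mul_left_comm, Nat.mul_div_cancel_left _ hdpos]
      exact orderOf_dvd_of_pow_eq_one ((pslMk_pow_eq_one_iff g (p * e)).2 ⟨_, h⟩)
    · have huv' : τ u = v := by
        have h := hmem u hu
        rw [hΛe] at h
        simp only [Multiset.mem_cons, Multiset.mem_singleton] at h
        rcases h with h | h | h
        · exact absurd (hτinj (h.trans hcτ.symm)) fun huc => hfix (huc.symm ▸ hcτ)
        · exact absurd h hfix
        · exact h
      have hcu : c ≠ u := fun h => hfix (h ▸ hcτ)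
      have huvne : u ≠ v := fun h => hfix (huv'.trans h.symm)
      have hcv : c ≠ v := fun h => hcu (hτinj (hcτ.trans (h.trans huv'.symm)))
      have hnd : Λ.Nodup := by rw [hΛe]; simp [hcu, hcv, huvne]
      have hτv : τ v = u := by
        have h := hτ
        rw [hΛe, Multiset.map_cons, Multiset.map_cons, Multiset.map_singleton, hcτ, huv',
          Multiset.cons_inj_right, Multiset.cons_eq_cons] at h
        rcases h with ⟨h, -⟩ | ⟨-, cs, h, -⟩
        · exact absurd h.symm huvne
        · have := congrArg Multiset.card h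
          rw [Multiset.card_singleton, Multiset.card_cons] at this
          have hcs : cs = 0 := Multiset.card_eq_zero.1 (by omega)
          rw [hcs] at h
          exact Multiset.singleton_inj.1 h
      have hu0 := hne u hu
      set k := e * (q + 1) with hk
      have hqk : q ^ 2 - 1 = d * k := by
        rw [hk, ← mul_assoc, ← he, mul_comm, ← Nat.sq_sub_sq, one_pow]
      have huk : u ^ (d * k) = 1 := by
        have h : u ^ q ^ 2 = u := by
          have h' : τ (τ u) = u := by rw [huv', hτv]
          rw [sq, pow_mul]; exact h'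
        rw [← Nat.sub_add_cancel (Nat.one_le_pow 2 q (by omega)), pow_succ, hqk] at h
        exact (mul_eq_right₀ hu0).1 h
      have hu3 : u ^ (3 * k) = 1 := by
        rcases hd3 with h | h
        · rw [h, one_mul] at huk
          rw [mul_comm, pow_mul, huk, one_pow]
        · rwa [h] at huk
      have hfixk : (u ^ k) ^ q = u ^ k := by
        have : (u ^ k) ^ (q - 1) = 1 := by
          rw [← pow_mul, he, show k * (d * e) = d * k * e by ring, pow_mul, huk, one_pow]
        rw [← Nat.sub_add_cancel (by omega : 1 ≤ q), pow_succ, this, one_mul]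
      have hvk : v ^ k = u ^ k := by
        rw [← huv']
        show (u ^ q) ^ k = u ^ k
        rw [pow_right_comm, hfixk]
      have hck : c ^ k = u ^ k := by
        have h' : c ^ k * (u ^ k * v ^ k) = 1 := by rw [← mul_pow, ← mul_pow, huvc, one_pow]
        rw [hvk, ← mul_assoc] at h'
        have h'' : u ^ k * u ^ k * u ^ k = 1 := by rw [← hu3, ← pow_add, ← pow_add]; ring_nf
        exact mul_right_cancel₀ (pow_ne_zero k hu0) (mul_right_cancel₀ (pow_ne_zero k hu0) (h'.trans h''.symm))
      obtain ⟨U, hU⟩ := mem_range_of_pow_card (u ^ k) hfixk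
      refine Or.inr (Or.inl ?_)
      rw [hqk, Nat.mul_div_cancel_left _ hdpos]
      refine hfin k (Nat.mul_pos hepos (by omega)).ne' hnd ⟨U, fun x hx => ?_⟩
      rw [hU]
      rw [hΛe] at hx
      simp only [Multiset.mem_cons, Multiset.mem_singleton] at hx
      rcases hx with rfl | rfl | rfl
      exacts [hck, rfl, hvk]
  · push Not at hex
    obtain ⟨u, hu⟩ : ∃ u, u ∈ Λ := Multiset.exists_mem_of_ne_zero fun h => by rw [h] at hcard; simp at hcard
    have h1 := hex u hu
    have hv := hmem u hu
    have hw := hmem _ hv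
    set v := τ u with hvdef
    set w := τ v with hwdef
    have h2 : w ≠ v := hex v hv
    have h3 : w ≠ u := by
      intro hwu
      obtain ⟨s, hs⟩ := Multiset.exists_cons_of_mem hu
      have hv' : v ∈ s := by
        have := hv; rw [hs, Multiset.mem_cons] at this; exact this.resolve_left h1
      obtain ⟨s', hs'⟩ := Multiset.exists_cons_of_mem hv'
      have hc' : Multiset.card s' = 1 := by
        rw [hs, hs', Multiset.card_cons, Multiset.card_cons] at hcard; omega
      obtain ⟨z, hz⟩ := Multiset.card_eq_one.1 hc'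
      have h := hτ
      rw [hs, hs', hz, Multiset.map_cons, Multiset.map_cons, Multiset.map_singleton,
        show τ u = v from rfl, show τ v = u from hwu, Multiset.cons_swap, Multiset.cons_inj_right,
        Multiset.cons_inj_right, Multiset.singleton_inj] at h
      exact hex z (by rw [hs, hs', hz]; simp) h
    have hnodup : ({u, v, w} : Multiset K).Nodup := by simp [Ne.symm h1, Ne.symm h3, Ne.symm h2]
    have hΛe : Λ = {u, v, w} := by
      refine (Multiset.eq_of_le_of_card_le ((Multiset.le_iff_subset hnodup).2 fun x hx => ?_) (by rw [hcard]; rfl)).symm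
      simp only [Multiset.insert_eq_cons, Multiset.mem_cons, Multiset.mem_singleton] at hx
      rcases hx with rfl | rfl | rfl <;> assumption
    have hu0 := hne u hu
    set M := q ^ 2 + q + 1 with hM
    have huM : u ^ M = 1 := by
      have h : u * v * w = 1 := by rw [← hprod, hΛe]; simp [mul_assoc]
      rw [← h, hwdef, hvdef]
      show u ^ M = u * u ^ q * (u ^ q) ^ q
      rw [← pow_mul, hM, pow_succ, pow_add, sq]
      ring
    have hdM : d ∣ M := by
      rcases hd3 with h | h
      · rw [h]; exact one_dvd _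
      · rw [h]
        have h3q : q % 3 = 1 := by rw [h] at he; omega
        have : q ^ 2 % 3 = 1 := by rw [Nat.pow_mod, h3q]
        omega
    obtain ⟨k, hk⟩ := hdM
    have hkpos : k ≠ 0 := fun h => by rw [h, mul_zero] at hk; omega
    have hfixk : (u ^ k) ^ q = u ^ k := by
      have : (u ^ k) ^ (q - 1) = 1 := by
        rw [← pow_mul, he, show k * (d * e) = d * k * e by ring, ← hk, pow_mul, huM, one_pow]
      rw [← Nat.sub_add_cancel (by omega : 1 ≤ q), pow_succ, this, one_mul]
    have hvk : v ^ k = u ^ k := by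
      show (u ^ q) ^ k = u ^ k
      rw [pow_right_comm, hfixk]
    have hwk : w ^ k = u ^ k := by
      show (v ^ q) ^ k = u ^ k
      rw [pow_right_comm, hvk, hfixk]
    obtain ⟨U, hU⟩ := mem_range_of_pow_card (u ^ k) hfixk
    refine Or.inl ?_
    rw [hk, Nat.mul_div_cancel_left _ hdpos]
    refine hfin k hkpos (hΛe ▸ hnodup) ⟨U, fun x hx => ?_⟩
    rw [hU]
    rw [hΛe] at hx
    simp only [Multiset.insert_eq_cons, Multiset.mem_cons, Multiset.mem_singleton] at hx
    rcases hx with rfl | rfl | rfl
    exacts [rfl, hvk, hwk]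

theorem dvd_psl3_order_mul (g : Matrix.SpecialLinearGroup (Fin 3) F) :
    orderOf (g : Matrix (Fin 3) (Fin 3) F) ∣ orderOf (pslMk g) * Nat.gcd 3 (Fintype.card F - 1) := by
  obtain ⟨c, hc⟩ := (pslMk_pow_eq_one_iff g _).1 (pow_orderOf_eq_one (pslMk g))
  have hc3 : c ^ 3 = 1 := by
    have := congrArg Matrix.det hc
    rw [Matrix.det_pow, g.2, one_pow, Matrix.det_smul, Matrix.det_one, mul_one, Fintype.card_fin] at this
    exact this.symm
  have hc0 : c ≠ 0 := fun h => by rw [h, zero_pow (by norm_num)] at hc3; exact zero_ne_one hc3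
  have hcd : c ^ Nat.gcd 3 (Fintype.card F - 1) = 1 :=
    pow_gcd_eq_one.2 ⟨hc3, FiniteField.pow_card_sub_one_eq_one c hc0⟩
  refine orderOf_dvd_of_pow_eq_one ?_
  rw [pow_mul, hc, _root_.smul_pow, one_pow, hcd, one_smul]

theorem mem_range_psl_of_dvd {s : ℕ} (g : Matrix.SpecialLinearGroup (Fin 3) F) (hs : s ∣ orderOf (pslMk g)) :
    s ∈ Set.range (orderOf : Matrix.ProjectiveSpecialLinearGroup (Fin 3) F → ℕ) :=
  ⟨pslMk g ^ (orderOf (pslMk g) / s), orderOf_pow_orderOf_div (orderOf_pos _).ne' hs⟩

theorem mem_range_psl_of_matrix {s m : ℕ} (A : Matrix (Fin 3) (Fin 3) F) (hA : A.det = 1)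
    (hm : Nat.gcd 3 (Fintype.card F - 1) * m ∣ orderOf A) (hs : s ∣ m) :
    s ∈ Set.range (orderOf : Matrix.ProjectiveSpecialLinearGroup (Fin 3) F → ℕ) := by
  refine mem_range_psl_of_dvd ⟨A, hA⟩ (hs.trans ?_)
  have h := hm.trans (dvd_psl3_order_mul ⟨A, hA⟩)
  rw [mul_comm] at h
  exact Nat.dvd_of_mul_dvd_mul_right (Nat.gcd_pos_of_pos_left _ (by norm_num)) h

/-- The spectrum of `PSL(3, q)`. -/
theorem psl3_spectrum {p : ℕ} [Fact p.Prime] [CharP F p] :
    Set.range (orderOf : Matrix.ProjectiveSpecialLinearGroup (Fin 3) F → ℕ) =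
      {m : ℕ | m ∣ (Fintype.card F ^ 2 + Fintype.card F + 1) / Nat.gcd 3 (Fintype.card F - 1) ∨
        m ∣ (Fintype.card F ^ 2 - 1) / Nat.gcd 3 (Fintype.card F - 1) ∨ m ∣ Fintype.card F - 1 ∨
        m ∣ p * (Fintype.card F - 1) / Nat.gcd 3 (Fintype.card F - 1) ∨ (p = 2 ∧ m ∣ 4)} := by
  classical
  obtain ⟨f, -, hf⟩ := FiniteField.card F p
  ext s
  constructor
  · rintro ⟨x, rfl⟩
    obtain ⟨g, rfl⟩ := QuotientGroup.mk'_surjective _ x
    exact psl3_order_dvd hf g
  set q := Fintype.card F with hqdef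
  have hq2 : 2 ≤ q := Fintype.one_lt_card
  obtain ⟨u, hu⟩ := IsCyclic.exists_ofOrder_eq_natCard (α := Fˣ)
  rw [Nat.card_eq_fintype_card, Fintype.card_units, ← hqdef] at hu
  have how : orderOf (u : F) = q - 1 := by rw [orderOf_units, hu]
  rintro (h | h | h | h | ⟨hp2, h⟩)
  · obtain ⟨M, hMu, hM⟩ := CfsgLib.KnownSimple.exists_matrix_orderOf_eq (F := F) 3 (by norm_num)
    have hcub : q ^ 3 - 1 = (q - 1) * (q ^ 2 + q + 1) := by
      obtain ⟨t, ht⟩ : ∃ t, q = t + 1 := ⟨q - 1, by omega⟩
      rw [ht, Nat.add_sub_cancel]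
      refine Nat.sub_eq_of_eq_add ?_
      ring
    refine mem_range_psl_of_matrix (M ^ (q - 1)) ?_ ?_ h
    · rw [Matrix.det_pow]
      exact FiniteField.pow_card_sub_one_eq_one _ ((Matrix.isUnit_iff_isUnit_det M).1 hMu).ne_zero
    · rw [orderOf_pow_of_dvd (by omega) (by rw [hM, ← hqdef, hcub]; exact dvd_mul_right _ _), hM, ← hqdef, hcub,
        Nat.mul_div_cancel_left _ (by omega)]
      refine (Nat.mul_div_cancel' ?_).dvd
      rcases (Nat.dvd_prime Nat.prime_three).1 (Nat.gcd_dvd_left 3 (q - 1)) with h' | h'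
      · rw [h']; exact one_dvd _
      · rw [h']
        have : q % 3 = 1 := by have := h' ▸ Nat.gcd_dvd_right 3 (q - 1); omega
        have : q ^ 2 % 3 = 1 := by rw [Nat.pow_mod, this]
        omega
  · obtain ⟨M, hMu, hM⟩ := CfsgLib.KnownSimple.exists_matrix_orderOf_eq (F := F) 2 (by norm_num)
    have hMd : M.det ≠ 0 := ((Matrix.isUnit_iff_isUnit_det M).1 hMu).ne_zero
    set A := blk (F := F) (n := 3) (i := 2) (by norm_num) (M, M.det⁻¹ • 1) with hA
    refine mem_range_psl_of_matrix A ?_ ?_ h
    · rw [hA, det_blk, Matrix.det_smul, Matrix.det_one, mul_one, Fintype.card_fin]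
      simp [hMd]
    · rw [Nat.mul_div_cancel' ((Nat.gcd_dvd_right 3 (q - 1)).trans (Nat.sub_one_dvd_pow_sub_one q 2)),
        ← hM]
      refine orderOf_dvd_of_pow_eq_one ?_
      have h1 := pow_orderOf_eq_one A
      conv_lhs at h1 => arg 1; rw [hA]
      rw [← map_pow, Prod.pow_mk, ← map_one (blk (F := F) (n := 3) (i := 2) (by norm_num))] at h1
      exact congrArg Prod.fst (blk_injective _ h1)
  · set A : Matrix (Fin 3) (Fin 3) F := Matrix.diagonal ![(u : F), ((u⁻¹ : Fˣ) : F), 1] with hA
    have key : ∀ (k : ℕ) (c : F), A ^ k = c • 1 → q - 1 ∣ k := fun k c hc => by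
      rw [hA, diagonal_pow, smul_one_eq_diagonal] at hc
      have e2 : (1 : F) = c := by simpa using congrFun (diagonal_injective hc) 2
      have e0 := congrFun (diagonal_injective hc) 0
      simp only [Pi.pow_apply, Matrix.cons_val_zero, ← e2] at e0
      rw [← how]
      exact orderOf_dvd_of_pow_eq_one e0
    let g : Matrix.SpecialLinearGroup (Fin 3) F := ⟨A, by rw [hA, det_diagonal, Fin.prod_univ_three]; simp⟩
    refine mem_range_psl_of_dvd g (h.trans ?_)
    obtain ⟨c, hc⟩ := (pslMk_pow_eq_one_iff g _).1 (pow_orderOf_eq_one (pslMk g))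
    exact key _ c hc
  · set A : Matrix (Fin 3) (Fin 3) F := !![(u : F), (u : F), 0; 0, (u : F), 0; 0, 0, (u : F)⁻¹ * (u : F)⁻¹] with hA
    have hpow : ∀ k : ℕ, A ^ k = !![(u : F) ^ k, (k : F) * (u : F) ^ k, 0; 0, (u : F) ^ k, 0; 0, 0, ((u : F)⁻¹ * (u : F)⁻¹) ^ k] := by
      intro k
      induction k with
      | zero => rw [pow_zero]; ext i j; fin_cases i <;> fin_cases j <;> simp
      | succ k ih =>
        rw [pow_succ A, ih, hA]
        ext i j
        fin_cases i <;> fin_cases j <;> simp [Matrix.mul_apply, Fin.sum_univ_three, pow_succ] <;> ring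
    refine mem_range_psl_of_matrix A (by rw [hA, det_fin_three]; simp; field_simp) ?_ h
    rw [Nat.mul_div_cancel' ((Nat.gcd_dvd_right 3 (q - 1)).mul_left p)]
    have h1 := hpow (orderOf A)
    rw [pow_orderOf_eq_one] at h1
    have e00 : (u : F) ^ orderOf A = 1 := by simpa using (congrFun (congrFun h1 0) 0).symm
    have e01 : (orderOf A : F) = 0 := by
      have h' := congrFun (congrFun h1 0) 1
      simpa [e00] using h'.symm
    have hcop : p.Coprime (q - 1) := by
      refine ((Fact.out : p.Prime).coprime_iff_not_dvd).2 fun h' => (Fact.out : p.Prime).ne_one (Nat.dvd_one.1 ?_)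
      have h'' := Nat.dvd_sub ((CharP.cast_eq_zero_iff F p _).1 (FiniteField.cast_card_eq_zero F)) h'
      rwa [← hqdef, Nat.sub_sub_self (by omega : 1 ≤ q)] at h''
    exact hcop.mul_dvd_of_dvd_of_dvd ((CharP.cast_eq_zero_iff F p _).1 e01) (how ▸ orderOf_dvd_of_pow_eq_one e00)
  · subst hp2
    have htwo : (1 : F) + 1 = 0 := by rw [one_add_one_eq_two]; exact CharP.cast_eq_zero F 2
    set A : Matrix (Fin 3) (Fin 3) F := !![1, 1, 0; 0, 1, 1; 0, 0, 1] with hA
    let g : Matrix.SpecialLinearGroup (Fin 3) F := ⟨A, by rw [hA, det_fin_three]; simp⟩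
    have hg : (g : Matrix (Fin 3) (Fin 3) F) = A := rfl
    refine mem_range_psl_of_dvd g (h.trans (dvd_of_eq ?_))
    refine (orderOf_eq_prime_pow (p := 2) (n := 1) ?_ ?_).symm
    · rw [pow_one, pslMk_pow_eq_one_iff, hg]
      rintro ⟨c, hc⟩
      have h02 := congrFun (congrFun hc 0) 2
      simp [hA, pow_two, Matrix.mul_apply, Fin.sum_univ_three] at h02
    · rw [pslMk_pow_eq_one_iff]
      refine ⟨1, ?_⟩
      rw [hg, show (2 : ℕ) ^ (1 + 1) = 2 * 2 by norm_num]
      rw [pow_mul, hA, one_smul, pow_two, pow_two]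
      ext i j
      fin_cases i <;> fin_cases j <;> simp [Matrix.mul_apply, Fin.sum_univ_three, htwo]

end CfsgLib.Spectra
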