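import Cfsg.Agent.Lib.KnownSimple.Spectra.SimpleRoots
import Cfsg.Agent.Lib.KnownSimple.Spectra.PSL3
import Cfsg.Agent.Lib.KnownSimple.SpSpectrum
import Cfsg.Agent.Lib.PrimeGraphPSL.Adjacency

/-!
Orbits of eigenvalues of symplectic matrices and adjacency in the prime graph of `PSp(2n, q)`.
-/

set_option autoImplicit false
set_option linter.style.haveILetI false

namespace CfsgLib.Spectra

open Matrix Polynomial CfsgLib.Classical CfsgLib.KnownSimple CfsgLib.UnitarySpec CfsgLib.PrimeGraphPSL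

section Arith

/-- The half order `η`. -/
theorem eta_dvd_of_neg {q r D η : ℕ} (hr : r.Prime) (hr2 : r ≠ 2) (hη : 2 * η = orderOf (q : ZMod r) ∨
    (Odd (orderOf (q : ZMod r)) ∧ η = orderOf (q : ZMod r))) (hD : r ∣ q ^ D + 1) :
    ∃ a, Odd a ∧ D = η * a ∧ 2 * η = orderOf (q : ZMod r) := by
  haveI : Fact r.Prime := ⟨hr⟩
  have h1 : (q : ZMod r) ^ D = -1 := by
    rw [← ZMod.natCast_eq_zero_iff] at hD
    push_cast at hD
    exact eq_neg_of_add_eq_zero_left hD
  have hne : (-1 : ZMod r) ≠ 1 := by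
    haveI : Fact (2 < r) := ⟨lt_of_le_of_ne hr.two_le (Ne.symm hr2)⟩
    exact ZMod.neg_one_ne_one
  set k := orderOf (q : ZMod r) with hk
  have h2 : k ∣ 2 * D := orderOf_dvd_of_pow_eq_one (by rw [mul_comm, pow_mul, h1, neg_one_sq])
  have h3 : ¬ k ∣ D := fun h => hne (by rw [← h1, orderOf_dvd_iff_pow_eq_one.1 h])
  rcases hη with hη | ⟨hodd, -⟩
  · rw [← hη] at h2 h3
    obtain ⟨a, rfl⟩ := (Nat.mul_dvd_mul_iff_left (by norm_num : 0 < 2)).1 h2
    refine ⟨a, Nat.not_even_iff_odd.1 fun ha => h3 ?_, rfl, hη⟩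
    rw [mul_comm 2 η]
    exact mul_dvd_mul_left η ha.two_dvd
  · exact absurd ((Nat.coprime_two_right.2 hodd).dvd_of_dvd_mul_left h2) h3

theorem neg_of_eta {q r η a : ℕ} (hq : 1 ≤ q) (hr : r.Prime) (h2 : 2 * η = orderOf (q : ZMod r)) (hη : 0 < η)
    (ha : Odd a) : r ∣ q ^ (η * a) + 1 := by
  haveI : Fact r.Prime := ⟨hr⟩
  have h : r ∣ q ^ η + 1 := by
    have h1 := (orderOf_natCast_dvd_iff (r := r) hq).1 (h2 ▸ dvd_rfl : orderOf (q : ZMod r) ∣ 2 * η)
    rw [show q ^ (2 * η) - 1 = (q ^ η + 1) * (q ^ η - 1) by rw [← Nat.sq_sub_sq, one_pow, ← pow_mul, mul_comm]] at h1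
    refine (hr.dvd_mul.1 h1).resolve_right fun h' => ?_
    have h3 := Nat.le_of_dvd hη ((orderOf_natCast_dvd_iff (r := r) hq).2 h')
    omega
  refine h.trans ?_
  rw [pow_mul]
  simpa using ha.nat_add_dvd_pow_add_pow (q ^ η) 1

/-- `r` divides `q ^ η ± 1`, the sign being given by the parity of the order. -/
theorem eta_pos {q r η : ℕ} (hr : r.Prime) (hrq : ¬ r ∣ q)
    (hη : (Odd (orderOf (q : ZMod r)) ∧ η = orderOf (q : ZMod r)) ∨
      (Even (orderOf (q : ZMod r)) ∧ 2 * η = orderOf (q : ZMod r))) : 0 < η := by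
  have := orderOf_natCast_pos hr hrq
  rcases hη with ⟨-, h⟩ | ⟨-, h⟩ <;> omega

end Arith

variable {F : Type*} [Field F] {n : ℕ}

/-- A symplectic matrix as a matrix on `Fin (n + n)`. -/
def spFin : symplecticGroup (Fin n) F →* Matrix (Fin (n + n)) (Fin (n + n)) F :=
  (Matrix.reindexAlgEquiv F F (finSumFinEquiv (m := n) (n := n))).toRingEquiv.toRingHom.toMonoidHom.comp
    (symplecticGroup (Fin n) F).subtype

theorem spFin_injective : Function.Injective (spFin (F := F) (n := n)) := fun _ _ h =>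
  Subtype.ext ((Matrix.reindexAlgEquiv F F _).injective h)

theorem charpoly_spFin_inv (g : symplecticGroup (Fin n) F) :
    (spFin g⁻¹).charpoly = (spFin g).charpoly := by
  show (Matrix.reindexAlgEquiv F F finSumFinEquiv (g⁻¹).1).charpoly = (Matrix.reindexAlgEquiv F F finSumFinEquiv g.1).charpoly
  rw [Matrix.coe_reindexAlgEquiv, Matrix.charpoly_reindex, Matrix.charpoly_reindex, SymplecticGroup.coe_inv]
  let u : (Matrix (Fin n ⊕ Fin n) (Fin n ⊕ Fin n) F)ˣ :=
    ⟨J (Fin n) F, -J (Fin n) F, by rw [mul_neg, J_squared, neg_neg], by rw [neg_mul, J_squared, neg_neg]⟩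
  rw [show (-(J (Fin n) F) * g.1ᵀ * J (Fin n) F) =
    ((u⁻¹ : (Matrix (Fin n ⊕ Fin n) (Fin n ⊕ Fin n) F)ˣ) : Matrix (Fin n ⊕ Fin n) (Fin n ⊕ Fin n) F) * g.1ᵀ *
      (u : Matrix (Fin n ⊕ Fin n) (Fin n ⊕ Fin n) F) from rfl, Matrix.coe_units_inv, Matrix.charpoly_units_conj', charpoly_transpose]

variable [Fintype F]

/-- The eigenvalues of an element. -/
noncomputable def spRoots (g : symplecticGroup (Fin n) F) : Multiset (AlgebraicClosure F) :=
  ((spFin g).map (algebraMap F (AlgebraicClosure F))).charpoly.roots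

theorem card_spRoots (g : symplecticGroup (Fin n) F) : Multiset.card (spRoots g) = n + n := by
  rw [spRoots, IsAlgClosed.card_roots_eq_natDegree, Matrix.charpoly_natDegree_eq_dim, Fintype.card_fin]

theorem spRoots_pow_eq_one (g : symplecticGroup (Fin n) F) {x : AlgebraicClosure F} (hx : x ∈ spRoots g) :
    x ^ orderOf g = 1 := by
  have h := eval_root_of_aeval_eq_zero (K := AlgebraicClosure F) (spFin g) (X ^ orderOf g - 1)
    (by rw [map_sub, map_pow, aeval_X, map_one, ← map_pow, pow_orderOf_eq_one, map_one, sub_self])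
    (isRoot_of_mem_roots hx)
  rwa [map_sub, map_pow, aeval_X, map_one, sub_eq_zero] at h

theorem inv_mem_spRoots (g : symplecticGroup (Fin n) F) {x : AlgebraicClosure F} (hx : x ∈ spRoots g) :
    x⁻¹ ∈ spRoots g := by
  set φ := (algebraMap F (AlgebraicClosure F)).mapMatrix (m := Fin (n + n))
  have h1 : φ (spFin g) * φ (spFin g⁻¹) = 1 := by rw [← map_mul, ← map_mul, mul_inv_cancel, map_one, map_one]
  have hd : (φ (spFin g)).det ≠ 0 := fun h => by
    have := congrArg Matrix.det h1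
    rw [Matrix.det_mul, h, zero_mul, Matrix.det_one] at this
    exact zero_ne_one this
  have h2 := roots_charpoly_inv (φ (spFin g)) hd
  rw [Matrix.inv_eq_right_inv h1] at h2
  have h3 : (φ (spFin g⁻¹)).charpoly = (φ (spFin g)).charpoly := by
    show ((spFin g⁻¹).map _).charpoly = ((spFin g).map _).charpoly
    rw [Matrix.charpoly_map, Matrix.charpoly_map, charpoly_spFin_inv]
  rw [h3] at h2
  rw [spRoots]
  show x⁻¹ ∈ (φ (spFin g)).charpoly.roots
  rw [h2]
  exact Multiset.mem_map_of_mem _ hx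

variable {p : ℕ} [Fact p.Prime] [CharP F p]

theorem pow_card_mem_spRoots (g : symplecticGroup (Fin n) F) {x : AlgebraicClosure F} (hx : x ∈ spRoots g) :
    x ^ Fintype.card F ∈ spRoots g := by
  obtain ⟨p, hp⟩ := CharP.exists F
  haveI : Fact p.Prime := ⟨CharP.char_is_prime F p⟩
  obtain ⟨f, -, hf⟩ := FiniteField.card F p
  have h := psl_frobenius_roots hf (spFin g)
  rw [spRoots] at hx ⊢
  rw [← h]
  exact Multiset.mem_map_of_mem _ hx

theorem iterate_mem_spRoots (g : symplecticGroup (Fin n) F) {x : AlgebraicClosure F} (hx : x ∈ spRoots g) (i : ℕ) :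
    x ^ Fintype.card F ^ i ∈ spRoots g := by
  induction i with
  | zero => simpa using hx
  | succ i ih => rw [pow_succ, pow_mul]; exact pow_card_mem_spRoots g ih

/-- The `⟨q, -1⟩`-orbit of a root of order `N`: its size and its members. -/
theorem exists_orbit (g : symplecticGroup (Fin n) F) {x : AlgebraicClosure F} (hx : x ∈ spRoots g) {N : ℕ}
    (hN : orderOf x = N) (hN0 : N ≠ 0) (hcop : N.Coprime (Fintype.card F)) :
    ∃ S : Finset (AlgebraicClosure F), S.val ⊆ spRoots g ∧ (∀ y ∈ S, orderOf y = N) ∧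
      (S.card = 2 * orderOf ((Fintype.card F : ℕ) : ZMod N) ∨
        (S.card = orderOf ((Fintype.card F : ℕ) : ZMod N) ∧ ∃ D, N ∣ Fintype.card F ^ D + 1)) := by
  classical
  set q := Fintype.card F with hq
  have hq1 : 1 ≤ q := Fintype.card_pos
  set L := orderOf (q : ZMod N) with hL
  have hx0 : x ≠ 0 := fun h => hN0 (by rw [← hN, h, orderOf_zero])
  have ho : ∀ i, orderOf (x ^ q ^ i) = N := fun i => by
    rw [Nat.Coprime.orderOf_pow, hN]; rw [hN]; exact hcop.pow_right _
  have hfix : ∀ i j, i ≤ j → x ^ q ^ i = x ^ q ^ j → L ∣ j - i := by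
    intro i j hij h
    have h1 : (x ^ q ^ i) ^ (q ^ (j - i) - 1) = 1 := by
      have h2 : (x ^ q ^ i) ^ q ^ (j - i) = x ^ q ^ i := by
        rw [← pow_mul, ← pow_add, show i + (j - i) = j by omega]; exact h.symm
      rw [show (x ^ q ^ i) ^ q ^ (j - i) = (x ^ q ^ i) ^ (q ^ (j - i) - 1) * (x ^ q ^ i) by
        rw [← pow_succ, Nat.sub_add_cancel (Nat.one_le_pow _ _ hq1)]] at h2
      exact (mul_eq_right₀ (pow_ne_zero _ hx0)).1 h2
    exact (orderOf_natCast_dvd_iff hq1).2 (ho i ▸ orderOf_dvd_of_pow_eq_one h1)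
  set P := (Finset.range L).image fun i => x ^ q ^ i with hP
  have hinjP : Set.InjOn (fun i => x ^ q ^ i) (Finset.range L : Set ℕ) := by
    intro i hi j hj h
    simp only [Finset.coe_range, Set.mem_Iio] at hi hj
    rcases le_total i j with hij | hij
    · have := Nat.eq_zero_of_dvd_of_lt (hfix i j hij h) (by omega); omega
    · have := Nat.eq_zero_of_dvd_of_lt (hfix j i hij h.symm) (by omega); omega
  have hPcard : P.card = L := by rw [hP, Finset.card_image_of_injOn hinjP, Finset.card_range]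
  have hPmem : ∀ y ∈ P, y ∈ spRoots g ∧ orderOf y = N := by
    intro y hy
    obtain ⟨i, -, rfl⟩ := Finset.mem_image.1 hy
    exact ⟨iterate_mem_spRoots g hx i, ho i⟩
  by_cases hD : ∃ D, N ∣ q ^ D + 1
  · exact ⟨P, fun y hy => (hPmem y hy).1, fun y hy => (hPmem y hy).2, Or.inr ⟨hPcard, hD⟩⟩
  · refine ⟨P ∪ P.image (fun y => y⁻¹), fun y hy => ?_, fun y hy => ?_, Or.inl ?_⟩
    · rcases Finset.mem_union.1 (Finset.mem_def.2 hy) with h | h
      · exact (hPmem y h).1
      · obtain ⟨z, hz, rfl⟩ := Finset.mem_image.1 h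
        exact inv_mem_spRoots g (hPmem z hz).1
    · rcases Finset.mem_union.1 hy with h | h
      · exact (hPmem y h).2
      · obtain ⟨z, hz, rfl⟩ := Finset.mem_image.1 h
        rw [← (hPmem z hz).2]
        refine orderOf_eq_orderOf_iff.2 fun k => ?_
        rw [inv_pow, inv_eq_one]
    · rw [Finset.card_union_of_disjoint, Finset.card_image_of_injective _ inv_injective, hPcard, two_mul]
      rw [Finset.disjoint_left]
      intro y hy hy'
      obtain ⟨z, hz, hzy⟩ := Finset.mem_image.1 hy'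
      obtain ⟨i, hi, rfl⟩ := Finset.mem_image.1 hy
      obtain ⟨j, hj, rfl⟩ := Finset.mem_image.1 hz
      simp only [Finset.mem_range] at hi hj
      -- `x ^ (q ^ i + q ^ j) = 1` gives a power of `q` congruent to `-1`
      have h1 : x ^ (q ^ i + q ^ j) = 1 := by
        rw [pow_add, ← hzy, inv_mul_cancel₀ (pow_ne_zero _ hx0)]
      have h2 : N ∣ q ^ i + q ^ j := hN ▸ orderOf_dvd_of_pow_eq_one h1
      refine hD ⟨j + (L - i), ?_⟩
      have h3 : (q : ZMod N) ^ L = 1 := pow_orderOf_eq_one _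
      rw [← ZMod.natCast_eq_zero_iff] at h2 ⊢
      push_cast at h2 ⊢
      have h4 := congrArg (· * (q : ZMod N) ^ (L - i)) h2
      simp only [zero_mul, add_mul, ← pow_add, show i + (L - i) = L by omega, h3] at h4
      rw [add_comm]; exact h4

/-- An eigenvalue of exact order `r` outside the roots of unity of order dividing `m`. -/
theorem exists_root_pow_ne_one (g : symplecticGroup (Fin n) F) {m r : ℕ} (hn : 1 ≤ n) (hr : r.Prime) (hrp : r ≠ p)
    (hord : orderOf g = m * r) : ∃ x ∈ spRoots g, x ^ m ≠ 1 := by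
  by_contra h
  push Not at h
  have hnil := aeval_pow_eq_zero_of_roots (K := AlgebraicClosure F) (spFin g) (X ^ m - 1) fun x hx => by
    simp [h x hx]
  rw [map_sub, map_pow, aeval_X, map_one] at hnil
  haveI : Nonempty (Fin (n + n)) := ⟨⟨0, by omega⟩⟩
  haveI : CharP (Matrix (Fin (n + n)) (Fin (n + n)) F) p :=
    charP_of_injective_algebraMap (algebraMap F (Matrix (Fin (n + n)) (Fin (n + n)) F)).injective p
  have h2 := pow_eq_zero_of_le (Nat.lt_pow_self (Fact.out : p.Prime).one_lt).le hnil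
  rw [sub_pow_char_pow_of_commute p _ (Commute.one_right _), one_pow, sub_eq_zero, ← pow_mul, ← map_pow] at h2
  have h4 := orderOf_dvd_of_pow_eq_one (spFin_injective (h2.trans (map_one spFin).symm))
  have hm0 : 0 < m := Nat.pos_of_ne_zero fun h0 => by
    rw [h0, zero_mul] at hord; exact (orderOf_pos g).ne' hord
  rw [hord] at h4
  exact hrp ((Nat.prime_dvd_prime_iff_eq hr Fact.out).1 (hr.dvd_of_dvd_pow (Nat.dvd_of_mul_dvd_mul_left hm0 h4)))

omit [Fact p.Prime] [CharP F p] in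
theorem card_le_of_subset (g : symplecticGroup (Fin n) F) {S : Finset (AlgebraicClosure F)} (h : S.val ⊆ spRoots g) :
    S.card ≤ n + n := card_spRoots g ▸ Multiset.card_le_card ((Multiset.le_iff_subset S.nodup).2 h)

theorem not_dvd_card_of_ne {r : ℕ} (hr : r.Prime) (hrp : r ≠ p) : r.Coprime (Fintype.card F) :=
  (hr.coprime_iff_not_dvd).2 (not_dvd_card (p := p) hr hrp)

/-- The orbit of an eigenvalue of odd prime order has at least `2 η` members. -/
theorem exists_orbit_prime (g : symplecticGroup (Fin n) F) {x : AlgebraicClosure F} (hx : x ∈ spRoots g)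
    {r η : ℕ} (hr : r.Prime) (hr2 : r ≠ 2) (hrp : r ≠ p) (hxr : orderOf x = r)
    (hη : (Odd (orderOf ((Fintype.card F : ℕ) : ZMod r)) ∧ η = orderOf ((Fintype.card F : ℕ) : ZMod r)) ∨
      (Even (orderOf ((Fintype.card F : ℕ) : ZMod r)) ∧ 2 * η = orderOf ((Fintype.card F : ℕ) : ZMod r))) :
    ∃ S : Finset (AlgebraicClosure F), S.val ⊆ spRoots g ∧ (∀ y ∈ S, orderOf y = r) ∧ 2 * η ≤ S.card := by
  obtain ⟨S, hS, hSo, h | ⟨h, D, hD⟩⟩ :=
    exists_orbit g hx hxr hr.ne_zero (not_dvd_card_of_ne (p := p) hr hrp)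
  · refine ⟨S, hS, hSo, ?_⟩
    rcases hη with ⟨-, e⟩ | ⟨-, e⟩ <;> omega
  · obtain ⟨a, -, -, e⟩ := eta_dvd_of_neg hr hr2 (hη.elim (fun h => Or.inr h) fun h => Or.inl h.2) hD
    exact ⟨S, hS, hSo, by omega⟩

/-- No element of order `r p` when `η` is large. -/
theorem no_order_mul_char (hn : 1 ≤ n) {r η : ℕ} (hr : r.Prime) (hr2 : r ≠ 2) (hrp : r ≠ p)
    (hη : (Odd (orderOf ((Fintype.card F : ℕ) : ZMod r)) ∧ η = orderOf ((Fintype.card F : ℕ) : ZMod r)) ∨
      (Even (orderOf ((Fintype.card F : ℕ) : ZMod r)) ∧ 2 * η = orderOf ((Fintype.card F : ℕ) : ZMod r)))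
    (hlarge : n ≤ η) (g : symplecticGroup (Fin n) F) : ¬ r * p ∣ orderOf g := by
  classical
  haveI : Fact r.Prime := ⟨hr⟩
  intro hdvd
  set u := g ^ (orderOf g / p) with hu'
  set b := g ^ (orderOf g / r) with hb'
  have hu : orderOf u = p := orderOf_pow_orderOf_div (orderOf_pos g).ne' ((dvd_mul_left p r).trans hdvd)
  have hb : orderOf b = r := orderOf_pow_orderOf_div (orderOf_pos g).ne' ((dvd_mul_right r p).trans hdvd)
  obtain ⟨x, hx, hx1⟩ := exists_root_pow_ne_one (p := p) (m := 1) b hn hr hrp (by rw [hb, one_mul])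
  rw [pow_one] at hx1
  have hxr : orderOf x = r := orderOf_eq_prime (hb ▸ spRoots_pow_eq_one b hx) hx1
  obtain ⟨S, hS, -, hcard⟩ := exists_orbit_prime (p := p) b hx hr hr2 hrp hxr hη
  have hnd : (spRoots b).Nodup :=
    Multiset.eq_of_le_of_card_le ((Multiset.le_iff_subset S.nodup).2 hS)
      (by rw [card_spRoots]; show n + n ≤ S.card; omega) ▸ S.nodup
  haveI : Nonempty (Fin (n + n)) := ⟨⟨0, by omega⟩⟩
  haveI : CharP (Matrix (Fin (n + n)) (Fin (n + n)) F) p :=
    charP_of_injective_algebraMap (algebraMap F (Matrix (Fin (n + n)) (Fin (n + n)) F)).injective p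
  have hcomm : Commute b u := (Commute.refl g).pow_pow _ _
  have hN := eq_zero_of_commute_of_nodup hnd ((hcomm.map spFin).sub_right (Commute.one_right _))
    ⟨p, by rw [sub_pow_char_of_commute p (Commute.one_right _), one_pow, ← map_pow, ← hu, pow_orderOf_eq_one,
      map_one, sub_self]⟩
  have : u = 1 := spFin_injective ((sub_eq_zero.1 hN).trans (map_one spFin).symm)
  rw [this, orderOf_one] at hu
  exact (Fact.out : p.Prime).ne_one hu.symm

/-- An element of order `r s` forces `η + η' ≤ n` or an odd ratio. -/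
theorem order_mul_cases (hn : 1 ≤ n) {r s k l ηk ηl : ℕ} (hr : r.Prime) (hs : s.Prime) (hr2 : r ≠ 2) (hs2 : s ≠ 2)
    (hrp : r ≠ p) (hsp : s ≠ p) (hrs : r ≠ s)
    (hk : k = orderOf ((Fintype.card F : ℕ) : ZMod r)) (hl : l = orderOf ((Fintype.card F : ℕ) : ZMod s))
    (hηk : (Odd k ∧ ηk = k) ∨ (Even k ∧ 2 * ηk = k)) (hηl : (Odd l ∧ ηl = l) ∨ (Even l ∧ 2 * ηl = l))
    (hkl : ηk ≤ ηl) (g : symplecticGroup (Fin n) F) (hg : orderOf g = r * s) :
    ηk + ηl ≤ n ∨ ∃ t : ℕ, Odd t ∧ l = k * t := by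
  classical
  haveI : Fact r.Prime := ⟨hr⟩
  haveI : Fact s.Prime := ⟨hs⟩
  set q := Fintype.card F with hq
  have hq1 : 1 ≤ q := Fintype.card_pos
  by_cases hjoint : ∃ z ∈ spRoots g, z ^ r ≠ 1 ∧ z ^ s ≠ 1
  · obtain ⟨z, hz, hzr, hzs⟩ := hjoint
    rcases Nat.lt_or_ge n (ηk + ηl) with hlt | hge
    swap
    · exact Or.inl hge
    refine Or.inr ?_
    have hzo : orderOf z = r * s := by
      have h1 : orderOf z ∣ r * s := hg ▸ orderOf_dvd_of_pow_eq_one (spRoots_pow_eq_one g hz)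
      refine Nat.dvd_antisymm h1 ?_
      refine ((Nat.coprime_primes hr hs).2 hrs).mul_dvd_of_dvd_of_dvd ?_ ?_
      · by_contra hr'
        exact hzs (orderOf_dvd_iff_pow_eq_one.1 (((hr.coprime_iff_not_dvd).2 hr').symm.dvd_of_dvd_mul_left h1))
      · by_contra hs'
        exact hzr (orderOf_dvd_iff_pow_eq_one.1 (((hs.coprime_iff_not_dvd).2 hs').symm.dvd_of_dvd_mul_right h1))
    obtain ⟨S, hS, -, hcase⟩ := exists_orbit g hz hzo (Nat.mul_ne_zero hr.ne_zero hs.ne_zero)
      ((not_dvd_card_of_ne (p := p) hr hrp).mul_left (not_dvd_card_of_ne (p := p) hs hsp))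
    have hle := card_le_of_subset g hS
    set L := orderOf ((Fintype.card F : ℕ) : ZMod (r * s)) with hL
    have hLd : r * s ∣ q ^ L - 1 := (orderOf_natCast_dvd_iff hq1).1 (hL ▸ dvd_rfl)
    have hkL : k ∣ L := hk ▸ (orderOf_natCast_dvd_iff hq1).2 ((dvd_mul_right r s).trans hLd)
    have hlL : l ∣ L := hl ▸ (orderOf_natCast_dvd_iff hq1).2 ((dvd_mul_left s r).trans hLd)
    have hk0 : 0 < k := hk ▸ orderOf_natCast_pos hr (not_dvd_card (p := p) hr hrp)
    have hl0 : 0 < l := hl ▸ orderOf_natCast_pos hs (not_dvd_card (p := p) hs hsp)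
    have hrs' := (Nat.coprime_primes hr hs).2 hrs
    have hlk : k.lcm l ∣ L ∧ L ∣ k.lcm l := by
      refine ⟨Nat.lcm_dvd hkL hlL, hL ▸ (orderOf_natCast_dvd_iff hq1).2 ?_⟩
      exact hrs'.mul_dvd_of_dvd_of_dvd ((orderOf_natCast_dvd_iff hq1).1 (hk ▸ Nat.dvd_lcm_left k l))
        ((orderOf_natCast_dvd_iff hq1).1 (hl ▸ Nat.dvd_lcm_right k l))
    have hL0 : 0 < L := Nat.pos_of_dvd_of_pos hlk.2 (Nat.lcm_pos hk0 hl0)
    rcases hcase with hc | ⟨hc, D, hD⟩
    · obtain ⟨c, hc'⟩ := hlL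
      have hlodd : Odd l := by
        rcases hηl with ⟨h, -⟩ | ⟨-, h⟩
        · exact h
        · exfalso
          have := Nat.le_of_dvd hL0 (Dvd.intro c hc'.symm)
          omega
      have hηl' : ηl = l := by
        rcases hηl with ⟨-, h⟩ | ⟨h, -⟩
        · exact h
        · exact absurd h (Nat.not_even_iff_odd.2 hlodd)
      have hLl : L = l := by
        rcases c with _ | _ | c
        · omega
        · omega
        · have h2 : l * 2 ≤ l * (c + 1 + 1) := Nat.mul_le_mul_left l (by omega)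
          omega
      rw [hLl] at hkL
      obtain ⟨t, ht⟩ := hkL
      exact ⟨t, (Nat.odd_mul.1 (ht ▸ hlodd)).2, ht⟩
    · obtain ⟨a, ha, haD, hk2⟩ := eta_dvd_of_neg (η := ηk) hr hr2 (by
        rw [← hk]; exact hηk.elim (fun h => Or.inr h) fun h => Or.inl h.2) ((dvd_mul_right r s).trans hD)
      obtain ⟨b, hb, hbD, hl2⟩ := eta_dvd_of_neg (η := ηl) hs hs2 (by
        rw [← hl]; exact hηl.elim (fun h => Or.inr h) fun h => Or.inl h.2) ((dvd_mul_left s r).trans hD)
      rw [← hk] at hk2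
      rw [← hl] at hl2
      obtain ⟨c, hc'⟩ := hlL
      have hLl : L = l := by
        rcases c with _ | _ | c
        · omega
        · omega
        · have h2 : l * 2 ≤ l * (c + 1 + 1) := Nat.mul_le_mul_left l (by omega)
          omega
      rw [hLl, ← hk2, ← hl2] at hkL
      obtain ⟨t, ht⟩ := (Nat.mul_dvd_mul_iff_left (by norm_num : 0 < 2)).1 hkL
      refine ⟨t, ?_, by rw [← hk2, ← hl2, ht, mul_assoc]⟩
      have h5 : ηk * a = ηk * (t * b) := by rw [← mul_assoc, ← ht, ← haD, ← hbD]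
      exact (Nat.odd_mul.1 (Nat.eq_of_mul_eq_mul_left (by omega) h5 ▸ ha)).1
  · push Not at hjoint
    refine Or.inl ?_
    obtain ⟨x, hx, hx1⟩ := exists_root_pow_ne_one (p := p) g hn hr hrp (m := s) (by rw [hg, mul_comm])
    obtain ⟨y, hy, hy1⟩ := exists_root_pow_ne_one (p := p) g hn hs hsp (m := r) hg
    have hxr : x ^ r = 1 := by
      by_contra h
      exact hx1 (hjoint x hx h)
    have hys : y ^ s = 1 := hjoint y hy hy1
    have hxo : orderOf x = r := orderOf_eq_prime hxr fun h => hx1 (by rw [h, one_pow])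
    have hyo : orderOf y = s := orderOf_eq_prime hys fun h => hy1 (by rw [h, one_pow])
    obtain ⟨S, hS, hSo, hSc⟩ := exists_orbit_prime (p := p) g hx hr hr2 hrp hxo (hk ▸ hηk)
    obtain ⟨T, hT, hTo, hTc⟩ := exists_orbit_prime (p := p) g hy hs hs2 hsp hyo (hl ▸ hηl)
    have hdisj : Disjoint S T := Finset.disjoint_left.2 fun z hzS hzT => hrs ((hSo z hzS).symm.trans (hTo z hzT))
    have hle := card_le_of_subset g (S := S ∪ T) fun z hz => by
      rcases Finset.mem_union.1 (Finset.mem_def.2 hz) with h | h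
      · exact hS h
      · exact hT h
    rw [Finset.card_union_of_disjoint hdisj] at hle
    omega

end CfsgLib.Spectra
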