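import Cfsg.Agent.Lib.KnownSimple.Spectra.SimpleRoots
import Cfsg.Agent.Lib.KnownSimple.Spectra.SpOrbits

/-!
Eigenvalues of isometries of a non-degenerate bilinear form: orbits under `x ↦ x ^ q` and inversion.
-/

set_option autoImplicit false
set_option linter.style.haveILetI false

namespace CfsgLib.Spectra

open Matrix Polynomial CfsgLib.UnitarySpec CfsgLib.PrimeGraphPSL

variable {F : Type*} [Field F] [Fintype F] {N : ℕ}

/-- The eigenvalues of a matrix over the algebraic closure. -/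
noncomputable def mRoots (A : Matrix (Fin N) (Fin N) F) : Multiset (AlgebraicClosure F) :=
  (A.map (algebraMap F (AlgebraicClosure F))).charpoly.roots

omit [Fintype F] in
theorem card_mRoots (A : Matrix (Fin N) (Fin N) F) : Multiset.card (mRoots A) = N := by
  rw [mRoots, IsAlgClosed.card_roots_eq_natDegree, Matrix.charpoly_natDegree_eq_dim, Fintype.card_fin]

omit [Fintype F] in
theorem mRoots_pow_eq_one {A : Matrix (Fin N) (Fin N) F} {m : ℕ} (hA : A ^ m = 1) {x : AlgebraicClosure F}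
    (hx : x ∈ mRoots A) : x ^ m = 1 := by
  have h := eval_root_of_aeval_eq_zero (K := AlgebraicClosure F) A (X ^ m - 1)
    (by rw [map_sub, map_pow, aeval_X, map_one, hA, sub_self]) (isRoot_of_mem_roots hx)
  rwa [map_sub, map_pow, aeval_X, map_one, sub_eq_zero] at h

theorem pow_card_mem_mRoots (A : Matrix (Fin N) (Fin N) F) {x : AlgebraicClosure F} (hx : x ∈ mRoots A) (i : ℕ) :
    x ^ Fintype.card F ^ i ∈ mRoots A := by
  induction i with
  | zero => simpa using hx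
  | succ i ih =>
    obtain ⟨p, hp⟩ := CharP.exists F
    haveI : Fact p.Prime := ⟨CharP.char_is_prime F p⟩
    obtain ⟨f, -, hf⟩ := FiniteField.card F p
    rw [pow_succ, pow_mul]
    rw [mRoots] at ih ⊢
    rw [← psl_frobenius_roots hf A]
    exact Multiset.mem_map_of_mem _ ih

omit [Fintype F] in
theorem inv_mem_mRoots {A B : Matrix (Fin N) (Fin N) F} (hB : B.det ≠ 0) (hA : Aᵀ * B * A = B)
    {x : AlgebraicClosure F} (hx : x ∈ mRoots A) : x⁻¹ ∈ mRoots A := by
  set φ := (algebraMap F (AlgebraicClosure F)).mapMatrix (m := Fin N)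
  have hdA : A.det ≠ 0 := fun h => by
    have := congrArg Matrix.det hA
    rw [Matrix.det_mul, h, mul_zero] at this
    exact hB this.symm
  have hd : (φ A).det ≠ 0 := by
    rw [← RingHom.map_det]; exact fun h => hdA ((algebraMap F _).injective (h.trans (map_zero _).symm))
  have h1 : φ A * φ A⁻¹ = 1 := by rw [← map_mul, Matrix.mul_nonsing_inv A (isUnit_iff_ne_zero.2 hdA), map_one]
  have h2 := roots_charpoly_inv (φ A) hd
  rw [Matrix.inv_eq_right_inv h1] at h2
  have h3 : A⁻¹.charpoly = A.charpoly := by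
    have hi : A⁻¹ = B⁻¹ * Aᵀ * B := by
      refine Matrix.inv_eq_left_inv ?_
      rw [Matrix.mul_assoc B⁻¹, Matrix.mul_assoc, hA, Matrix.nonsing_inv_mul B (isUnit_iff_ne_zero.2 hB)]
    rw [hi, Matrix.charpoly_mul_comm, ← Matrix.mul_assoc, Matrix.mul_nonsing_inv B (isUnit_iff_ne_zero.2 hB),
      Matrix.one_mul, charpoly_transpose]
  have h3' : (φ A⁻¹).charpoly = (φ A).charpoly := by
    show (A⁻¹.map _).charpoly = (A.map _).charpoly
    rw [Matrix.charpoly_map, Matrix.charpoly_map, h3]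
  rw [h3'] at h2
  show x⁻¹ ∈ (φ A).charpoly.roots
  rw [h2]
  exact Multiset.mem_map_of_mem _ hx

/-- An eigenvalue outside the roots of unity of order dividing `m`. -/
theorem exists_mRoot_pow_ne_one {p : ℕ} [Fact p.Prime] [CharP F p] (A : Matrix (Fin N) (Fin N) F) {m r : ℕ}
    (hN : 1 ≤ N) (hm : 0 < m) (hr : r.Prime) (hrp : r ≠ p) (hord : orderOf A = m * r) :
    ∃ x ∈ mRoots A, x ^ m ≠ 1 := by
  by_contra h
  push Not at h
  have hnil := aeval_pow_eq_zero_of_roots (K := AlgebraicClosure F) A (X ^ m - 1) fun x hx => by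
    simp [h x hx]
  rw [map_sub, map_pow, aeval_X, map_one] at hnil
  haveI : Nonempty (Fin N) := ⟨⟨0, hN⟩⟩
  haveI : CharP (Matrix (Fin N) (Fin N) F) p :=
    charP_of_injective_algebraMap (algebraMap F (Matrix (Fin N) (Fin N) F)).injective p
  have h2 := pow_eq_zero_of_le (Nat.lt_pow_self (Fact.out : p.Prime).one_lt).le hnil
  rw [sub_pow_char_pow_of_commute p _ (Commute.one_right _), one_pow, sub_eq_zero, ← pow_mul] at h2
  have h4 := orderOf_dvd_of_pow_eq_one h2
  rw [hord] at h4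
  exact hrp ((Nat.prime_dvd_prime_iff_eq hr Fact.out).1 (hr.dvd_of_dvd_pow (Nat.dvd_of_mul_dvd_mul_left hm h4)))

/-- The `⟨q, -1⟩`-orbit of an eigenvalue of order `M`. -/
theorem exists_mOrbit {A B : Matrix (Fin N) (Fin N) F} (hB : B.det ≠ 0) (hA : Aᵀ * B * A = B)
    {x : AlgebraicClosure F} (hx : x ∈ mRoots A) {M : ℕ} (hM : orderOf x = M) (hM0 : M ≠ 0)
    (hcop : M.Coprime (Fintype.card F)) :
    ∃ S : Finset (AlgebraicClosure F), S.val ⊆ mRoots A ∧ (∀ y ∈ S, orderOf y = M) ∧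
      (∀ y ∈ S, ∃ i : ℕ, y = x ^ Fintype.card F ^ i ∨ y = (x ^ Fintype.card F ^ i)⁻¹) ∧
      (S.card = 2 * orderOf ((Fintype.card F : ℕ) : ZMod M) ∨
        (S.card = orderOf ((Fintype.card F : ℕ) : ZMod M) ∧ ∃ D, M ∣ Fintype.card F ^ D + 1)) := by
  classical
  set q := Fintype.card F with hq
  have hq1 : 1 ≤ q := Fintype.card_pos
  set L := orderOf (q : ZMod M) with hL
  have hx0 : x ≠ 0 := fun h => hM0 (by rw [← hM, h, orderOf_zero])
  have ho : ∀ i, orderOf (x ^ q ^ i) = M := fun i => by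
    rw [Nat.Coprime.orderOf_pow, hM]; rw [hM]; exact hcop.pow_right _
  have hfix : ∀ i j, i ≤ j → x ^ q ^ i = x ^ q ^ j → L ∣ j - i := by
    intro i j hij h
    have h1 : (x ^ q ^ i) ^ (q ^ (j - i) - 1) = 1 := by
      have h2 : (x ^ q ^ i) ^ q ^ (j - i) = x ^ q ^ i := by
        rw [← pow_mul, ← pow_add, show i + (j - i) = j by omega]; exact h.symm
      rw [show (x ^ q ^ i) ^ q ^ (j - i) = (x ^ q ^ i) ^ (q ^ (j - i) - 1) * (x ^ q ^ i) by
        rw [← pow_succ, Nat.sub_add_cancel (Nat.one_le_pow _ _ hq1)]] at h2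
      exact (mul_eq_right₀ (pow_ne_zero _ hx0)).1 h2
    exact (orderOf_natCast_dvd_iff hq1).2 (ho i ▸ orderOf_dvd_of_pow_eq_one h1)
  set P := (Finset.range L).image fun i => x ^ q ^ i with hP
  have hinjP : Set.InjOn (fun i => x ^ q ^ i) (Finset.range L : Set ℕ) := by
    intro i hi j hj h
    simp only [Finset.coe_range, Set.mem_Iio] at hi hj
    rcases le_total i j with hij | hij
    · have := Nat.eq_zero_of_dvd_of_lt (hfix i j hij h) (by omega); omega
    · have := Nat.eq_zero_of_dvd_of_lt (hfix j i hij h.symm) (by omega); omega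
  have hPcard : P.card = L := by rw [hP, Finset.card_image_of_injOn hinjP, Finset.card_range]
  have hPmem : ∀ y ∈ P, y ∈ mRoots A ∧ orderOf y = M ∧ ∃ i : ℕ, y = x ^ q ^ i := by
    intro y hy
    obtain ⟨i, -, rfl⟩ := Finset.mem_image.1 hy
    exact ⟨pow_card_mem_mRoots A hx i, ho i, i, rfl⟩
  by_cases hD : ∃ D, M ∣ q ^ D + 1
  · refine ⟨P, fun y hy => (hPmem y hy).1, fun y hy => (hPmem y hy).2.1, fun y hy => ?_, Or.inr ⟨hPcard, hD⟩⟩
    obtain ⟨i, hi⟩ := (hPmem y hy).2.2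
    exact ⟨i, Or.inl hi⟩
  · refine ⟨P ∪ P.image (fun y => y⁻¹), fun y hy => ?_, fun y hy => ?_, fun y hy => ?_, Or.inl ?_⟩
    · rcases Finset.mem_union.1 (Finset.mem_def.2 hy) with h | h
      · exact (hPmem y h).1
      · obtain ⟨z, hz, rfl⟩ := Finset.mem_image.1 h
        exact inv_mem_mRoots hB hA (hPmem z hz).1
    · rcases Finset.mem_union.1 hy with h | h
      · exact (hPmem y h).2.1
      · obtain ⟨z, hz, rfl⟩ := Finset.mem_image.1 h
        rw [← (hPmem z hz).2.1]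
        refine orderOf_eq_orderOf_iff.2 fun k => ?_
        rw [inv_pow, inv_eq_one]
    · rcases Finset.mem_union.1 hy with h | h
      · obtain ⟨i, hi⟩ := (hPmem y h).2.2
        exact ⟨i, Or.inl hi⟩
      · obtain ⟨z, hz, rfl⟩ := Finset.mem_image.1 h
        obtain ⟨i, hi⟩ := (hPmem z hz).2.2
        exact ⟨i, Or.inr (by rw [hi])⟩
    · rw [Finset.card_union_of_disjoint, Finset.card_image_of_injective _ inv_injective, hPcard, two_mul]
      rw [Finset.disjoint_left]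
      intro y hy hy'
      obtain ⟨z, hz, hzy⟩ := Finset.mem_image.1 hy'
      obtain ⟨i, hi, rfl⟩ := Finset.mem_image.1 hy
      obtain ⟨j, hj, rfl⟩ := Finset.mem_image.1 hz
      simp only [Finset.mem_range] at hi hj
      have h1 : x ^ (q ^ i + q ^ j) = 1 := by
        rw [pow_add, ← hzy, inv_mul_cancel₀ (pow_ne_zero _ hx0)]
      have h2 : M ∣ q ^ i + q ^ j := hM ▸ orderOf_dvd_of_pow_eq_one h1
      refine hD ⟨j + (L - i), ?_⟩
      have h3 : (q : ZMod M) ^ L = 1 := pow_orderOf_eq_one _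
      rw [← ZMod.natCast_eq_zero_iff] at h2 ⊢
      push_cast at h2 ⊢
      have h4 := congrArg (· * (q : ZMod M) ^ (L - i)) h2
      simp only [zero_mul, add_mul, ← pow_add, show i + (L - i) = L by omega, h3] at h4
      rw [add_comm]; exact h4

theorem card_le_mRoots {A : Matrix (Fin N) (Fin N) F} {S : Finset (AlgebraicClosure F)} (h : S.val ⊆ mRoots A) :
    S.card ≤ N := card_mRoots A ▸ Multiset.card_le_card ((Multiset.le_iff_subset S.nodup).2 h)

/-- The orbit of an eigenvalue of odd prime order has at least `2 η` members. -/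
theorem exists_mOrbit_prime {p : ℕ} [Fact p.Prime] [CharP F p] {A B : Matrix (Fin N) (Fin N) F} (hB : B.det ≠ 0)
    (hA : Aᵀ * B * A = B) {x : AlgebraicClosure F} (hx : x ∈ mRoots A) {r η : ℕ} (hr : r.Prime) (hr2 : r ≠ 2)
    (hrp : r ≠ p) (hxr : orderOf x = r)
    (hη : (Odd (orderOf ((Fintype.card F : ℕ) : ZMod r)) ∧ η = orderOf ((Fintype.card F : ℕ) : ZMod r)) ∨
      (Even (orderOf ((Fintype.card F : ℕ) : ZMod r)) ∧ 2 * η = orderOf ((Fintype.card F : ℕ) : ZMod r))) :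
    ∃ S : Finset (AlgebraicClosure F), S.val ⊆ mRoots A ∧ (∀ y ∈ S, orderOf y = r) ∧
      (∀ y ∈ S, ∃ i : ℕ, y = x ^ Fintype.card F ^ i ∨ y = (x ^ Fintype.card F ^ i)⁻¹) ∧ 2 * η ≤ S.card := by
  obtain ⟨S, hS, hSo, hSm, h | ⟨h, D, hD⟩⟩ :=
    exists_mOrbit hB hA hx hxr hr.ne_zero (not_dvd_card_of_ne (p := p) hr hrp)
  · refine ⟨S, hS, hSo, hSm, ?_⟩
    rcases hη with ⟨-, e⟩ | ⟨-, e⟩ <;> omega
  · obtain ⟨a, -, -, e⟩ := eta_dvd_of_neg hr hr2 (hη.elim (fun h => Or.inr h) fun h => Or.inl h.2) hD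
    exact ⟨S, hS, hSo, hSm, by omega⟩

/-- An element of order `r` needs dimension at least `2 η`. -/
theorem two_eta_le {p : ℕ} [Fact p.Prime] [CharP F p] {A B : Matrix (Fin N) (Fin N) F} (hN : 1 ≤ N)
    (hB : B.det ≠ 0) (hA : Aᵀ * B * A = B) {r η : ℕ} (hr : r.Prime) (hr2 : r ≠ 2) (hrp : r ≠ p)
    (hord : orderOf A = r)
    (hη : (Odd (orderOf ((Fintype.card F : ℕ) : ZMod r)) ∧ η = orderOf ((Fintype.card F : ℕ) : ZMod r)) ∨
      (Even (orderOf ((Fintype.card F : ℕ) : ZMod r)) ∧ 2 * η = orderOf ((Fintype.card F : ℕ) : ZMod r))) :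
    2 * η ≤ N := by
  haveI : Fact r.Prime := ⟨hr⟩
  obtain ⟨x, hx, hx1⟩ := exists_mRoot_pow_ne_one (p := p) (m := 1) A hN one_pos hr hrp (by rw [hord, one_mul])
  rw [pow_one] at hx1
  obtain ⟨S, hS, -, -, hc⟩ := exists_mOrbit_prime (p := p) hB hA hx hr hr2 hrp
    (orderOf_eq_prime (mRoots_pow_eq_one (hord ▸ pow_orderOf_eq_one A) hx) hx1) hη
  exact hc.trans (card_le_mRoots hS)

omit [Fintype F] in
/-- In odd dimension an isometry of determinant one fixes a vector. -/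
theorem one_mem_mRoots {A B : Matrix (Fin N) (Fin N) F} (hN : Odd N) (h2 : (2 : F) ≠ 0) (hB : B.det ≠ 0)
    (hA : Aᵀ * B * A = B) (hd : A.det = 1) : (1 : AlgebraicClosure F) ∈ mRoots A := by
  have h1 : Aᵀ * B * (A - 1) = (1 - A)ᵀ * B := by
    rw [Matrix.mul_sub, hA, Matrix.mul_one, Matrix.transpose_sub, Matrix.transpose_one, Matrix.sub_mul, Matrix.one_mul]
  have h3 := congrArg Matrix.det h1
  rw [Matrix.det_mul, Matrix.det_mul, Matrix.det_mul, Matrix.det_transpose, Matrix.det_transpose, hd, one_mul,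
    show (1 - A) = -(A - 1) from (neg_sub A 1).symm, Matrix.det_neg, Fintype.card_fin, hN.neg_one_pow] at h3
  have h4 : (A - 1).det = 0 := by
    have h5 : (2 : F) * B.det * (A - 1).det = 0 := by linear_combination h3
    exact (mul_eq_zero.1 h5).resolve_left (mul_ne_zero h2 hB)
  have h6 : A.charpoly.IsRoot 1 := by
    show A.charpoly.eval 1 = 0
    rw [Matrix.eval_charpoly, map_one, ← neg_sub A 1, Matrix.det_neg, h4, mul_zero]
  rw [mRoots, mem_roots (Matrix.charpoly_monic _).ne_zero, Matrix.charpoly_map,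
    ← map_one (algebraMap F (AlgebraicClosure F))]
  exact h6.map

/-- Distinct eigenvalues for an element of large prime order. -/
theorem nodup_mRoots {p : ℕ} [Fact p.Prime] [CharP F p] {A B : Matrix (Fin N) (Fin N) F}
    (hB : B.det ≠ 0) (hA : Aᵀ * B * A = B) {n r η : ℕ} (hn : 1 ≤ n)
    (hN : N = 2 * n ∨ (N = 2 * n + 1 ∧ A.det = 1 ∧ (2 : F) ≠ 0)) (hr : r.Prime) (hr2 : r ≠ 2) (hrp : r ≠ p)
    (hord : orderOf A = r) (hle : n ≤ η)
    (hη : (Odd (orderOf ((Fintype.card F : ℕ) : ZMod r)) ∧ η = orderOf ((Fintype.card F : ℕ) : ZMod r)) ∨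
      (Even (orderOf ((Fintype.card F : ℕ) : ZMod r)) ∧ 2 * η = orderOf ((Fintype.card F : ℕ) : ZMod r))) :
    (mRoots A).Nodup ∧ ∃ x, x ∈ mRoots A ∧ orderOf x = r ∧ ∀ y ∈ mRoots A, y = 1 ∧ N = 2 * n + 1 ∨
      ∃ i : ℕ, y = x ^ Fintype.card F ^ i ∨ y = (x ^ Fintype.card F ^ i)⁻¹ := by
  classical
  haveI : Fact r.Prime := ⟨hr⟩
  obtain ⟨x, hx, hx1⟩ := exists_mRoot_pow_ne_one (p := p) (m := 1) A
    (by rcases hN with h | ⟨h, -⟩ <;> omega) one_pos hr hrp (by rw [hord, one_mul])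
  rw [pow_one] at hx1
  have hxr : orderOf x = r := orderOf_eq_prime (mRoots_pow_eq_one (hord ▸ pow_orderOf_eq_one A) hx) hx1
  obtain ⟨S, hS, hSo, hSm, hc⟩ := exists_mOrbit_prime (p := p) hB hA hx hr hr2 hrp hxr hη
  rcases hN with hN | ⟨hN, hd, h2⟩
  · have he : S.val = mRoots A := Multiset.eq_of_le_of_card_le ((Multiset.le_iff_subset S.nodup).2 hS)
      (by rw [card_mRoots]; show N ≤ S.card; omega)
    exact ⟨he ▸ S.nodup, x, hx, hxr, fun y hy => Or.inr (hSm y (Finset.mem_def.2 (he ▸ hy)))⟩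
  · have h1S : (1 : AlgebraicClosure F) ∉ S := fun h => hr.ne_one (by rw [← hSo 1 h, orderOf_one])
    have hsub : (insert 1 S).val ⊆ mRoots A := fun y hy => by
      rcases Finset.mem_insert.1 (Finset.mem_def.2 hy) with h | h
      · exact h ▸ one_mem_mRoots (hN ▸ odd_two_mul_add_one n) h2 hB hA hd
      · exact hS h
    have he : (insert 1 S).val = mRoots A :=
      Multiset.eq_of_le_of_card_le ((Multiset.le_iff_subset (insert 1 S).nodup).2 hsub)
        (by rw [card_mRoots]; show N ≤ (insert 1 S).card; rw [Finset.card_insert_of_notMem h1S]; omega)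
    refine ⟨he ▸ (insert 1 S).nodup, x, hx, hxr, fun y hy => ?_⟩
    rcases Finset.mem_insert.1 (Finset.mem_def.2 (he ▸ hy : y ∈ (insert 1 S).val)) with h | h
    · exact Or.inl ⟨h, hN⟩
    · exact Or.inr (hSm y h)

/-- An element of order `r s`: `η + η' ≤ n`, or an odd ratio and `η' ≤ n`. -/
theorem iso_order_mul_cases {p : ℕ} [Fact p.Prime] [CharP F p] {A B : Matrix (Fin N) (Fin N) F}
    (hB : B.det ≠ 0) (hA : Aᵀ * B * A = B) {n r s k l ηk ηl : ℕ} (hN1 : 1 ≤ N) (hN : N ≤ 2 * n + 1)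
    (hr : r.Prime) (hs : s.Prime) (hr2 : r ≠ 2) (hs2 : s ≠ 2) (hrp : r ≠ p) (hsp : s ≠ p) (hrs : r ≠ s)
    (hk : k = orderOf ((Fintype.card F : ℕ) : ZMod r)) (hl : l = orderOf ((Fintype.card F : ℕ) : ZMod s))
    (hηk : (Odd k ∧ ηk = k) ∨ (Even k ∧ 2 * ηk = k)) (hηl : (Odd l ∧ ηl = l) ∨ (Even l ∧ 2 * ηl = l))
    (hkl : ηk ≤ ηl) (hg : orderOf A = r * s) :
    ηk + ηl ≤ n ∨ (ηl ≤ n ∧ ∃ t : ℕ, Odd t ∧ l = k * t) := by
  classical
  haveI : Fact r.Prime := ⟨hr⟩
  haveI : Fact s.Prime := ⟨hs⟩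
  set q := Fintype.card F with hq
  have hq1 : 1 ≤ q := Fintype.card_pos
  have hpow : ∀ {z}, z ∈ mRoots A → z ^ (r * s) = 1 := fun hz => mRoots_pow_eq_one (hg ▸ pow_orderOf_eq_one A) hz
  by_cases hjoint : ∃ z ∈ mRoots A, z ^ r ≠ 1 ∧ z ^ s ≠ 1
  · obtain ⟨z, hz, hzr, hzs⟩ := hjoint
    rcases Nat.lt_or_ge n (ηk + ηl) with hlt | hge
    swap
    · exact Or.inl hge
    refine Or.inr ?_
    have hrs' := (Nat.coprime_primes hr hs).2 hrs
    have hzo : orderOf z = r * s := by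
      have h1 : orderOf z ∣ r * s := orderOf_dvd_of_pow_eq_one (hpow hz)
      refine Nat.dvd_antisymm h1 (hrs'.mul_dvd_of_dvd_of_dvd ?_ ?_)
      · by_contra hr'
        exact hzs (orderOf_dvd_iff_pow_eq_one.1 (((hr.coprime_iff_not_dvd).2 hr').symm.dvd_of_dvd_mul_left h1))
      · by_contra hs'
        exact hzr (orderOf_dvd_iff_pow_eq_one.1 (((hs.coprime_iff_not_dvd).2 hs').symm.dvd_of_dvd_mul_right h1))
    obtain ⟨S, hS, -, -, hcase⟩ := exists_mOrbit hB hA hz hzo (Nat.mul_ne_zero hr.ne_zero hs.ne_zero)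
      ((not_dvd_card_of_ne (p := p) hr hrp).mul_left (not_dvd_card_of_ne (p := p) hs hsp))
    have hle := (card_le_mRoots hS).trans hN
    set L := orderOf ((Fintype.card F : ℕ) : ZMod (r * s)) with hL
    have hLd : r * s ∣ q ^ L - 1 := (orderOf_natCast_dvd_iff hq1).1 (hL ▸ dvd_rfl)
    have hkL : k ∣ L := hk ▸ (orderOf_natCast_dvd_iff hq1).2 ((dvd_mul_right r s).trans hLd)
    have hlL : l ∣ L := hl ▸ (orderOf_natCast_dvd_iff hq1).2 ((dvd_mul_left s r).trans hLd)
    have hk0 : 0 < k := hk ▸ orderOf_natCast_pos hr (not_dvd_card (p := p) hr hrp)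
    have hl0 : 0 < l := hl ▸ orderOf_natCast_pos hs (not_dvd_card (p := p) hs hsp)
    have hL0 : 0 < L := by
      refine Nat.pos_of_dvd_of_pos (hL ▸ (orderOf_natCast_dvd_iff hq1).2 ?_ : L ∣ k.lcm l) (Nat.lcm_pos hk0 hl0)
      exact hrs'.mul_dvd_of_dvd_of_dvd ((orderOf_natCast_dvd_iff hq1).1 (hk ▸ Nat.dvd_lcm_left k l))
        ((orderOf_natCast_dvd_iff hq1).1 (hl ▸ Nat.dvd_lcm_right k l))
    rcases hcase with hc | ⟨hc, D, hD⟩
    · obtain ⟨c, hc'⟩ := hlL
      have hll : l ≤ L := Nat.le_of_dvd hL0 (Dvd.intro c hc'.symm)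
      have hlodd : Odd l := by
        rcases hηl with ⟨h, -⟩ | ⟨-, h⟩
        · exact h
        · omega
      have hηl' : ηl = l := by
        rcases hηl with ⟨-, h⟩ | ⟨h, -⟩
        · exact h
        · exact absurd h (Nat.not_even_iff_odd.2 hlodd)
      have hLl : L = l := by
        rcases c with _ | _ | c
        · omega
        · omega
        · have h2 : l * 2 ≤ l * (c + 1 + 1) := Nat.mul_le_mul_left l (by omega)
          omega
      rw [hLl] at hkL
      obtain ⟨t, ht⟩ := hkL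
      exact ⟨by omega, t, (Nat.odd_mul.1 (ht ▸ hlodd)).2, ht⟩
    · obtain ⟨a, ha, haD, hk2⟩ := eta_dvd_of_neg (η := ηk) hr hr2 (by
        rw [← hk]; exact hηk.elim (fun h => Or.inr h) fun h => Or.inl h.2) ((dvd_mul_right r s).trans hD)
      obtain ⟨b, hb, hbD, hl2⟩ := eta_dvd_of_neg (η := ηl) hs hs2 (by
        rw [← hl]; exact hηl.elim (fun h => Or.inr h) fun h => Or.inl h.2) ((dvd_mul_left s r).trans hD)
      rw [← hk] at hk2
      rw [← hl] at hl2
      obtain ⟨c, hc'⟩ := hlL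
      have hLl : L = l := by
        rcases c with _ | _ | c
        · omega
        · omega
        · have h2 : l * 2 ≤ l * (c + 1 + 1) := Nat.mul_le_mul_left l (by omega)
          omega
      rw [hLl, ← hk2, ← hl2] at hkL
      obtain ⟨t, ht⟩ := (Nat.mul_dvd_mul_iff_left (by norm_num : 0 < 2)).1 hkL
      refine ⟨by omega, t, ?_, by rw [← hk2, ← hl2, ht, mul_assoc]⟩
      have h5 : ηk * a = ηk * (t * b) := by rw [← mul_assoc, ← ht, ← haD, ← hbD]
      exact (Nat.odd_mul.1 (Nat.eq_of_mul_eq_mul_left (by omega) h5 ▸ ha)).1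
  · push Not at hjoint
    refine Or.inl ?_
    obtain ⟨x, hx, hx1⟩ := exists_mRoot_pow_ne_one (p := p) A hN1 hs.pos hr hrp (by rw [hg, mul_comm])
    obtain ⟨y, hy, hy1⟩ := exists_mRoot_pow_ne_one (p := p) A hN1 hr.pos hs hsp hg
    have hxr : x ^ r = 1 := by
      by_contra h
      exact hx1 (hjoint x hx h)
    have hys : y ^ s = 1 := hjoint y hy hy1
    have hxo : orderOf x = r := orderOf_eq_prime hxr fun h => hx1 (by rw [h, one_pow])
    have hyo : orderOf y = s := orderOf_eq_prime hys fun h => hy1 (by rw [h, one_pow])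
    obtain ⟨S, hS, hSo, -, hSc⟩ := exists_mOrbit_prime (p := p) hB hA hx hr hr2 hrp hxo (hk ▸ hηk)
    obtain ⟨T, hT, hTo, -, hTc⟩ := exists_mOrbit_prime (p := p) hB hA hy hs hs2 hsp hyo (hl ▸ hηl)
    have hdisj : Disjoint S T := Finset.disjoint_left.2 fun z hzS hzT => hrs ((hSo z hzS).symm.trans (hTo z hzT))
    have hle := (card_le_mRoots (S := S ∪ T) (A := A) fun z hz => by
      rcases Finset.mem_union.1 (Finset.mem_def.2 hz) with h | h
      · exact hS h
      · exact hT h).trans hN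
    rw [Finset.card_union_of_disjoint hdisj] at hle
    omega

/-- No element of order `r p` in large rank. -/
theorem iso_no_commuting_unipotent {p : ℕ} [Fact p.Prime] [CharP F p] {A U B : Matrix (Fin N) (Fin N) F}
    (hB : B.det ≠ 0) (hA : Aᵀ * B * A = B) {n r η : ℕ} (hn : 1 ≤ n)
    (hN : N = 2 * n ∨ (N = 2 * n + 1 ∧ A.det = 1 ∧ (2 : F) ≠ 0)) (hr : r.Prime) (hr2 : r ≠ 2) (hrp : r ≠ p)
    (hord : orderOf A = r) (hle : n ≤ η)
    (hη : (Odd (orderOf ((Fintype.card F : ℕ) : ZMod r)) ∧ η = orderOf ((Fintype.card F : ℕ) : ZMod r)) ∨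
      (Even (orderOf ((Fintype.card F : ℕ) : ZMod r)) ∧ 2 * η = orderOf ((Fintype.card F : ℕ) : ZMod r)))
    (hc : Commute A U) (hU : U ^ p = 1) : U = 1 := by
  have hnd := (nodup_mRoots (p := p) hB hA hn hN hr hr2 hrp hord hle hη).1
  haveI : Nonempty (Fin N) := ⟨⟨0, by rcases hN with h | ⟨h, -⟩ <;> omega⟩⟩
  haveI : CharP (Matrix (Fin N) (Fin N) F) p :=
    charP_of_injective_algebraMap (algebraMap F (Matrix (Fin N) (Fin N) F)).injective p
  exact sub_eq_zero.1 (eq_zero_of_commute_of_nodup hnd (hc.sub_right (Commute.one_right _))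
    ⟨p, by rw [sub_pow_char_of_commute p (Commute.one_right _), one_pow, hU, sub_self]⟩)

end CfsgLib.Spectra
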