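import Cfsg.Agent.Lib.KnownSimple.Spectra.BilinRoots

/-!
A matrix commuting with an isometry with distinct eigenvalues acts on the eigenvectors by an equivariant function.
-/

set_option autoImplicit false
set_option linter.style.haveILetI false

namespace CfsgLib.Spectra

open Matrix Polynomial CfsgLib.UnitarySpec CfsgLib.PrimeGraphPSL

variable {F : Type*} [Field F] {N : ℕ}

/-- An eigenbasis. -/
theorem exists_eigenbasis {A : Matrix (Fin N) (Fin N) F} (hnd : (mRoots A).Nodup) :
    ∃ (ι : Type) (_ : Fintype ι) (_ : DecidableEq ι) (l : ι → AlgebraicClosure F)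
      (b : Module.Basis ι (AlgebraicClosure F) (Fin N → AlgebraicClosure F)),
      Function.Injective l ∧ (∀ x, x ∈ mRoots A ↔ ∃ i, l i = x) ∧
        ∀ i, A.map (algebraMap F (AlgebraicClosure F)) *ᵥ b i = l i • b i := by
  classical
  set K := AlgebraicClosure F
  set Λ := mRoots A with hΛ
  let e : Fin (Fintype.card Λ.toFinset) ≃ Λ.toFinset := (Fintype.equivFin _).symm
  have hcard : Fintype.card (Fin (Fintype.card Λ.toFinset)) = N := by
    rw [Fintype.card_fin, Fintype.card_coe, Multiset.toFinset_card_of_nodup hnd, hΛ, card_mRoots]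
  let φ : Module.End K (Fin N → K) := (A.map (algebraMap F K)).mulVecLin
  have hev : ∀ i, ∃ v : Fin N → K, φ.HasEigenvector (e i).1 v := by
    intro i
    have hl : (A.map (algebraMap F K)).charpoly.IsRoot (e i).1 :=
      isRoot_of_mem_roots (Multiset.mem_toFinset.1 (e i).2)
    have h0 : (Matrix.scalar (Fin N) (e i).1 - A.map (algebraMap F K)).det = 0 := by
      rw [← eval_charpoly]; exact hl
    obtain ⟨v, hv0, hv⟩ := Matrix.exists_mulVec_eq_zero_iff.2 h0
    refine ⟨v, Module.End.mem_eigenspace_iff.2 ?_, hv0⟩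
    rw [sub_mulVec, sub_eq_zero] at hv
    show A.map (algebraMap F K) *ᵥ v = (e i).1 • v
    rw [← hv, scalar_apply]
    funext k
    simp [mulVec_diagonal]
  choose v hv using hev
  have hinj : Function.Injective fun i => ((e i).1 : K) := Subtype.val_injective.comp e.injective
  have hli : LinearIndependent K v := Module.End.eigenvectors_linearIndependent' φ _ hinj v hv
  let b : Module.Basis (Fin (Fintype.card Λ.toFinset)) K (Fin N → K) := by
    refine Module.Basis.mk hli ?_
    rw [hli.span_eq_top_of_card_eq_finrank' (by rw [hcard, Module.finrank_fin_fun])]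
  refine ⟨_, inferInstance, inferInstance, fun i => (e i).1, b, hinj, fun x => ⟨fun hx => ?_, ?_⟩, fun i => ?_⟩
  · exact ⟨e.symm ⟨x, Multiset.mem_toFinset.2 hx⟩, by simp⟩
  · rintro ⟨i, rfl⟩
    exact Multiset.mem_toFinset.1 (e i).2
  · show φ (b i) = _
    rw [show b i = v i from Module.Basis.mk_apply _ _ i]
    exact (hv i).apply_eq_smul

/-- Eigenvectors of a matrix with distinct eigenvalues are proportional. -/
theorem eigvec_eq {ι : Type} [Fintype ι] {A : Matrix (Fin N) (Fin N) F} {l : ι → AlgebraicClosure F}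
    {b : Module.Basis ι (AlgebraicClosure F) (Fin N → AlgebraicClosure F)} (hl : Function.Injective l)
    (hb : ∀ i, A.map (algebraMap F (AlgebraicClosure F)) *ᵥ b i = l i • b i) {v : Fin N → AlgebraicClosure F}
    {i : ι} (hv : A.map (algebraMap F (AlgebraicClosure F)) *ᵥ v = l i • v) : v = b.repr v i • b i := by
  classical
  have hzero : ∀ j, j ≠ i → b.repr v j = 0 := by
    intro j hj
    have h1 : A.map (algebraMap F (AlgebraicClosure F)) *ᵥ v = ∑ k, (b.repr v k * l k) • b k := by
      conv_lhs => rw [← b.sum_repr v]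
      rw [Matrix.mulVec_sum]
      exact Finset.sum_congr rfl fun k _ => by rw [Matrix.mulVec_smul, hb, smul_smul]
    have h2 := congrArg (fun y => b.repr y j) (h1.symm.trans hv)
    simp only [b.repr_sum_self, map_smul, Finsupp.smul_apply, smul_eq_mul] at h2
    by_contra h3
    refine hj (hl (mul_left_cancel₀ h3 ?_))
    rw [h2, mul_comm]
  conv_lhs => rw [← b.sum_repr v]
  exact Finset.sum_eq_single i (fun j _ hj => by rw [hzero j hj, zero_smul]) (by simp)

variable [Fintype F]

/-- The equivariant function of a commuting matrix. -/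
theorem exists_eigen_function {A Z : Matrix (Fin N) (Fin N) F} (hnd : (mRoots A).Nodup) (hc : Commute A Z) :
    ∃ μ : AlgebraicClosure F → AlgebraicClosure F,
      (∀ x v, x ∈ mRoots A → A.map (algebraMap F (AlgebraicClosure F)) *ᵥ v = x • v →
        Z.map (algebraMap F (AlgebraicClosure F)) *ᵥ v = μ x • v) ∧
      (∀ m, Z ^ m = 1 → ∀ x ∈ mRoots A, μ x ^ m = 1) ∧
      (∀ x ∈ mRoots A, ∀ i : ℕ, μ (x ^ Fintype.card F ^ i) = μ x ^ Fintype.card F ^ i) ∧
      (∀ B : Matrix (Fin N) (Fin N) F, B.det ≠ 0 → Aᵀ * B * A = B → Zᵀ * B * Z = B →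
        ∀ x ∈ mRoots A, μ x * μ x⁻¹ = 1) ∧
      (∀ x ∈ mRoots A, ∃ v, v ≠ 0 ∧ A.map (algebraMap F (AlgebraicClosure F)) *ᵥ v = x • v) := by
  classical
  set K := AlgebraicClosure F
  let φ : Matrix (Fin N) (Fin N) F →+* Matrix (Fin N) (Fin N) K := (algebraMap F K).mapMatrix
  obtain ⟨ι, _, _, l, b, hl, hmem, hb⟩ := exists_eigenbasis hnd
  let Zk := Z.map (algebraMap F K)
  have hcK : A.map (algebraMap F K) * Zk = Zk * A.map (algebraMap F K) := (hc.map φ).eq
  let μ : K → K := fun x => if h : ∃ i, l i = x then b.repr (Zk *ᵥ b h.choose) h.choose else 0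
  have hμl : ∀ i, μ (l i) = b.repr (Zk *ᵥ b i) i := by
    intro i
    have h : ∃ j, l j = l i := ⟨i, rfl⟩
    simp only [μ, dif_pos h]
    rw [hl h.choose_spec]
  have hspec : ∀ x v, x ∈ mRoots A → A.map (algebraMap F K) *ᵥ v = x • v → Zk *ᵥ v = μ x • v := by
    intro x v hx hv
    obtain ⟨i, rfl⟩ := (hmem x).1 hx
    have h1 : Zk *ᵥ b i = μ (l i) • b i := by
      rw [hμl]
      refine eigvec_eq hl hb ?_
      rw [Matrix.mulVec_mulVec, hcK, ← Matrix.mulVec_mulVec, hb, Matrix.mulVec_smul]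
    rw [eigvec_eq hl hb hv, Matrix.mulVec_smul, h1, smul_comm]
  refine ⟨μ, hspec, fun m hm x hx => ?_, fun x hx i => ?_, fun B hB hA hZ x hx => ?_, fun x hx => ?_⟩
  · obtain ⟨i, rfl⟩ := (hmem x).1 hx
    have h1 : ∀ j : ℕ, Zk ^ j *ᵥ b i = μ (l i) ^ j • b i := by
      intro j
      induction j with
      | zero => simp
      | succ j ih => rw [pow_succ, ← Matrix.mulVec_mulVec, hspec _ _ hx (hb i), Matrix.mulVec_smul, ih, smul_smul, pow_succ']
    have h2 := h1 m
    rw [show Zk ^ m = 1 by rw [show Zk = φ Z from rfl, ← map_pow, hm, map_one], Matrix.one_mulVec] at h2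
    exact (smul_left_injective K (b.ne_zero i) (h2.symm.trans (one_smul K (b i)).symm))
  · induction i with
    | zero => simp
    | succ i ih =>
      obtain ⟨p, hp⟩ := CharP.exists F
      haveI : Fact p.Prime := ⟨CharP.char_is_prime F p⟩
      obtain ⟨f, -, hf⟩ := FiniteField.card F p
      haveI : CharP K p := charP_of_injective_algebraMap (algebraMap F K).injective p
      haveI : ExpChar K p := ExpChar.prime Fact.out
      let ψ : K →+* K := iterateFrobenius K p f
      have hψ : ∀ y : K, ψ y = y ^ Fintype.card F := fun y => by rw [iterateFrobenius_def, hf]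
      have hfixM : ∀ M : Matrix (Fin N) (Fin N) F, (M.map (algebraMap F K)).map ψ = M.map (algebraMap F K) := by
        intro M
        ext a c
        simp only [Matrix.map_apply, hψ]
        rw [← map_pow, FiniteField.pow_card]
      obtain ⟨j, hj⟩ := (hmem _).1 (pow_card_mem_mRoots A hx i)
      have hmv : ∀ (M : Matrix (Fin N) (Fin N) F) (c : K), M.map (algebraMap F K) *ᵥ b j = c • b j →
          M.map (algebraMap F K) *ᵥ (ψ ∘ b j) = c ^ Fintype.card F • (ψ ∘ b j) := by
        intro M c h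
        conv_lhs => rw [← hfixM M]
        funext a
        have h' := congrArg ψ (congrFun h a)
        rw [RingHom.map_mulVec, Pi.smul_apply, smul_eq_mul, map_mul] at h'
        rw [h', hψ c]
        rfl
      have h3 := hmv A _ (hb j)
      rw [hj, ← pow_mul, ← pow_succ] at h3
      have h4 := hmv Z _ (hspec _ _ (pow_card_mem_mRoots A hx i) (hj ▸ hb j))
      have h5 := hspec _ _ (pow_card_mem_mRoots A hx (i + 1)) h3
      have hne : (ψ ∘ b j : Fin N → K) ≠ 0 := fun h => b.ne_zero j (funext fun a => ψ.injective ((congrFun h a).trans (map_zero ψ).symm))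
      rw [smul_left_injective K hne (h5.symm.trans h4), ih, ← pow_mul, ← pow_succ]
  · obtain ⟨i, rfl⟩ := (hmem x).1 hx
    obtain ⟨j, hj⟩ := (hmem _).1 (inv_mem_mRoots hB hA hx)
    let Bk := B.map (algebraMap F K)
    have hform : ∀ M : Matrix (Fin N) (Fin N) F, Mᵀ * B * M = B → ∀ v w : Fin N → K,
        (M.map (algebraMap F K) *ᵥ v) ⬝ᵥ (Bk *ᵥ (M.map (algebraMap F K) *ᵥ w)) = v ⬝ᵥ (Bk *ᵥ w) := by
      intro M hM v w
      have h1 : (M.map (algebraMap F K))ᵀ * Bk * M.map (algebraMap F K) = Bk := by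
        have h0 := congrArg φ hM
        rw [map_mul, map_mul] at h0
        exact h0
      conv_rhs => rw [← h1]
      rw [← Matrix.mulVec_mulVec, ← Matrix.mulVec_mulVec]
      conv_rhs => rw [Matrix.dotProduct_mulVec, Matrix.vecMul_transpose]
    have hne : b i ⬝ᵥ (Bk *ᵥ b j) ≠ 0 := by
      intro h0
      have horth : ∀ k, b i ⬝ᵥ (Bk *ᵥ b k) = 0 := by
        intro k
        by_cases hk : l i * l k = 1
        · rw [show k = j from hl ((eq_inv_of_mul_eq_one_right hk).trans hj.symm)]
          exact h0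
        · have h1 := hform A hA (b i) (b k)
          rw [hb, hb, Matrix.mulVec_smul, smul_dotProduct, dotProduct_smul, smul_smul, smul_eq_mul] at h1
          by_contra h2
          exact hk ((mul_eq_right₀ h2).1 h1)
      have hall : ∀ w, b i ⬝ᵥ (Bk *ᵥ w) = 0 := fun w => by
        conv_lhs => rw [← b.sum_repr w]
        rw [Matrix.mulVec_sum, dotProduct_sum]
        exact Finset.sum_eq_zero fun k _ => by rw [Matrix.mulVec_smul, dotProduct_smul, horth, smul_zero]
      have h3 : Bkᵀ *ᵥ b i = 0 := funext fun a => by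
        have h4 := hall (Pi.single a 1)
        rw [Matrix.dotProduct_mulVec, dotProduct_single, mul_one] at h4
        rw [Matrix.mulVec_transpose]; exact h4
      have hd : Bkᵀ.det ≠ 0 := by
        rw [Matrix.det_transpose]
        show (φ B).det ≠ 0
        rw [← RingHom.map_det]
        exact fun h => hB ((algebraMap F K).injective (h.trans (map_zero _).symm))
      exact b.ne_zero i (Matrix.eq_zero_of_mulVec_eq_zero hd h3)
    have h1 := hform Z hZ (b i) (b j)
    rw [hspec _ _ hx (hb i), hspec _ _ ((hmem _).2 ⟨j, rfl⟩) (hb j), Matrix.mulVec_smul, smul_dotProduct,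
      dotProduct_smul, smul_smul, smul_eq_mul, hj] at h1
    exact (mul_eq_right₀ hne).1 h1
  · obtain ⟨i, rfl⟩ := (hmem x).1 hx
    exact ⟨b i, b.ne_zero i, hb i⟩

/-- On the orbit of an element of order `r` the function is a sign, unless a quarter turn exists in the torus. -/
theorem eigen_function_sign {p : ℕ} [Fact p.Prime] [CharP F p] {A Z B : Matrix (Fin N) (Fin N) F}
    (hB : B.det ≠ 0) (hA : Aᵀ * B * A = B) (hZ : Zᵀ * B * Z = B) (hc : Commute A Z) (hZ4 : Z ^ 4 = 1)
    (hnd : (mRoots A).Nodup) {r η : ℕ} (hr : r.Prime) (hrp : r ≠ p) (hodd : Odd (Fintype.card F)) (hη : 1 ≤ η)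
    (hcase : (orderOf ((Fintype.card F : ℕ) : ZMod r) = η ∧ Odd η ∧ ¬ 4 ∣ Fintype.card F ^ η - 1) ∨
      (orderOf ((Fintype.card F : ℕ) : ZMod r) = 2 * η ∧ ¬ 4 ∣ Fintype.card F ^ η + 1))
    {x : AlgebraicClosure F} (hx : x ∈ mRoots A) (hxr : orderOf x = r) :
    ∃ c : F, (c = 1 ∨ c = -1) ∧ ∀ v (i : ℕ) (y : AlgebraicClosure F),
      (y = x ^ Fintype.card F ^ i ∨ y = (x ^ Fintype.card F ^ i)⁻¹) →
      A.map (algebraMap F (AlgebraicClosure F)) *ᵥ v = y • v →
      Z.map (algebraMap F (AlgebraicClosure F)) *ᵥ v = algebraMap F (AlgebraicClosure F) c • v := by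
  haveI : Fact r.Prime := ⟨hr⟩
  obtain ⟨μ, hspec, hpow, hfrob, hinv, -⟩ := exists_eigen_function hnd hc
  set q := Fintype.card F with hq
  have hq1 : 1 ≤ q := Fintype.card_pos
  have h4 := hpow 4 hZ4 x hx
  have hxr1 : x ^ r = 1 := hxr ▸ pow_orderOf_eq_one x
  have hsq : μ x ^ 2 = 1 := by
    have hgcd : ∀ M, Even M → ¬ 4 ∣ M → μ x ^ M = 1 → μ x ^ 2 = 1 := by
      intro M hM2 hM4 hM
      have h := pow_gcd_eq_one.2 ⟨h4, hM⟩
      obtain ⟨c, rfl⟩ := hM2
      have hg : Nat.gcd 4 (c + c) = 2 := by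
        have hc : Odd c := Nat.not_even_iff_odd.1 fun ⟨d, hd⟩ => hM4 ⟨d, by omega⟩
        rw [← two_mul, show (4 : ℕ) = 2 * 2 from rfl, Nat.gcd_mul_left, Nat.coprime_two_left.2 hc, mul_one]
      rwa [hg] at h
    rcases hcase with ⟨ho, -, hno⟩ | ⟨ho, hno⟩
    · refine hgcd _ ?_ hno ?_
      · obtain ⟨c, hc⟩ := hodd.pow (n := η)
        exact ⟨c, by omega⟩
      · have hfix : x ^ q ^ η = x := by
          have h1 : r ∣ q ^ η - 1 := (orderOf_natCast_dvd_iff hq1).1 (ho ▸ dvd_rfl)
          rw [← Nat.sub_add_cancel (Nat.one_le_pow η q hq1), pow_succ,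
            orderOf_dvd_iff_pow_eq_one.1 (hxr.symm ▸ h1), one_mul]
        have h2 := hfrob x hx η
        rw [hfix, show μ x ^ q ^ η = μ x ^ (q ^ η - 1) * μ x by
          rw [← pow_succ, Nat.sub_add_cancel (Nat.one_le_pow _ _ hq1)]] at h2
        have hμ0 : μ x ≠ 0 := fun h0 => by rw [h0, zero_pow (by norm_num)] at h4; exact zero_ne_one h4
        exact (mul_eq_right₀ hμ0).1 h2.symm
    · refine hgcd _ ?_ hno ?_
      · obtain ⟨c, hc⟩ := hodd.pow (n := η)
        exact ⟨c + 1, by omega⟩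
      · have h1 : r ∣ q ^ η + 1 := by
          simpa using neg_of_eta (a := 1) hq1 hr ho.symm hη odd_one
        have hfix : x ^ q ^ η = x⁻¹ := eq_inv_of_mul_eq_one_right (by
          rw [← pow_succ']; exact orderOf_dvd_iff_pow_eq_one.1 (hxr.symm ▸ h1))
        have h2 := hfrob x hx η
        rw [hfix] at h2
        rw [pow_succ', ← h2]
        exact hinv B hB hA hZ x hx
  obtain ⟨c, hc1, hμ⟩ : ∃ c : F, (c = 1 ∨ c = -1) ∧ μ x = algebraMap F (AlgebraicClosure F) c := by
    rcases sq_eq_one_iff.1 hsq with h | h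
    · exact ⟨1, Or.inl rfl, by rw [h, map_one]⟩
    · exact ⟨-1, Or.inr rfl, by rw [h, map_neg, map_one]⟩
  refine ⟨c, hc1, fun v i y hy hv => ?_⟩
  have hi : μ (x ^ q ^ i) = algebraMap F (AlgebraicClosure F) c := by
    rw [hfrob x hx i, hμ, ← map_pow, FiniteField.pow_card_pow]
  rcases hy with rfl | rfl
  · rw [hspec _ v (pow_card_mem_mRoots A hx i) hv, hi]
  · have hm := pow_card_mem_mRoots A hx i
    rw [hspec _ v (inv_mem_mRoots hB hA hm) hv]
    congr 1
    have h3 := hinv B hB hA hZ _ hm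
    rw [hi] at h3
    rw [← eq_inv_of_mul_eq_one_right h3 |>.symm]
    rcases hc1 with rfl | rfl <;> simp

end CfsgLib.Spectra
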