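import Cfsg.Agent.Lib.KnownSimple.Unitary.Classify

/-!
A matrix with distinct eigenvalues commutes with no non-zero nilpotent matrix; orbits in root multisets.
-/

set_option autoImplicit false

namespace CfsgLib.Spectra

open Matrix Polynomial

variable {F : Type*} [Field F] {n : ℕ}

/-- Over a splitting field, a matrix with `n` distinct eigenvalues commutes with no non-zero nilpotent. -/
theorem eq_zero_of_commute_of_nodup {ι : Type*} [Fintype ι] [DecidableEq ι] {M N : Matrix ι ι F}
    (hnd : (M.map (algebraMap F (AlgebraicClosure F))).charpoly.roots.Nodup)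
    (hc : Commute M N) (hN : IsNilpotent N) : N = 0 := by
  classical
  set K := AlgebraicClosure F
  let φ : Matrix ι ι F →+* Module.End K (ι → K) :=
    (Matrix.toLinAlgEquiv' (R := K) (n := ι)).toRingEquiv.toRingHom.comp (algebraMap F K).mapMatrix
  have hφ : Function.Injective φ :=
    (Matrix.toLinAlgEquiv' (R := K) (n := ι)).injective.comp
      (Matrix.map_injective (algebraMap F K).injective)
  set Λ := (M.map (algebraMap F K)).charpoly.roots with hΛ
  have hcard : Fintype.card Λ.toFinset = Fintype.card ι := by
    rw [Fintype.card_coe, Multiset.toFinset_card_of_nodup hnd, hΛ, IsAlgClosed.card_roots_eq_natDegree,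
      Matrix.charpoly_natDegree_eq_dim]
  have hev : ∀ l : Λ.toFinset, ∃ v : ι → K, (φ M).HasEigenvector l.1 v := by
    intro l
    have hl : (M.map (algebraMap F K)).charpoly.IsRoot l.1 := isRoot_of_mem_roots (Multiset.mem_toFinset.1 l.2)
    have h0 : (Matrix.scalar ι l.1 - M.map (algebraMap F K)).det = 0 := by
      rw [← eval_charpoly]; exact hl
    obtain ⟨v, hv0, hv⟩ := Matrix.exists_mulVec_eq_zero_iff.2 h0
    refine ⟨v, Module.End.mem_eigenspace_iff.2 ?_, hv0⟩
    rw [sub_mulVec, sub_eq_zero] at hv
    show M.map (algebraMap F K) *ᵥ v = l.1 • v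
    rw [← hv, scalar_apply]
    funext i
    simp [mulVec_diagonal]
  choose v hv using hev
  have hli : LinearIndependent K v :=
    Module.End.eigenvectors_linearIndependent' (φ M) (fun l : Λ.toFinset => (l.1 : K)) Subtype.val_injective v hv
  rcases isEmpty_or_nonempty ι with hn | hn
  · exact Subsingleton.elim _ _
  haveI : Nonempty Λ.toFinset := Fintype.card_pos_iff.1 (hcard ▸ Fintype.card_pos)
  let b := basisOfLinearIndependentOfCardEqFinrank hli (by rw [hcard, Module.finrank_fintype_fun_eq_card])
  have hb : ∀ l, b l = v l := fun l => congrFun (coe_basisOfLinearIndependentOfCardEqFinrank _ _) l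
  obtain ⟨k, hk⟩ := hN
  apply hφ
  rw [map_zero]
  refine b.ext fun l => ?_
  set x := φ N (b l)
  have hMx : φ M x = l.1 • x := by
    show φ M (φ N (b l)) = l.1 • φ N (b l)
    rw [← Module.End.mul_apply, ← map_mul, hc.eq, map_mul, Module.End.mul_apply, hb, (hv l).apply_eq_smul,
      map_smul]
  have hMb : ∀ j, φ M (b j) = j.1 • b j := fun j => by rw [hb, (hv j).apply_eq_smul]
  have hzero : ∀ j, j ≠ l → b.repr x j = 0 := by
    intro j hj
    have h1 : φ M x = ∑ i, (b.repr x i * i.1) • b i := by
      conv_lhs => rw [← b.sum_repr x]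
      rw [map_sum]
      exact Finset.sum_congr rfl fun i _ => by rw [map_smul, hMb, smul_smul]
    have h2 := congrArg (fun y => b.repr y j) (h1.symm.trans hMx)
    simp only [b.repr_sum_self, map_smul, Finsupp.smul_apply, smul_eq_mul] at h2
    by_contra h3
    refine hj (Subtype.ext (mul_left_cancel₀ h3 ?_))
    rw [h2, mul_comm]
  have hx : x = b.repr x l • b l := by
    conv_lhs => rw [← b.sum_repr x]
    exact Finset.sum_eq_single l (fun j _ hj => by rw [hzero j hj, zero_smul]) (by simp)
  have hpow : ∀ j : ℕ, (φ N ^ j) (b l) = (b.repr x l) ^ j • b l := by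
    intro j
    induction j with
    | zero => simp
    | succ j ih =>
      rw [pow_succ, Module.End.mul_apply, show φ N (b l) = x from rfl]
      conv_lhs => rw [hx]
      rw [map_smul, ih, smul_smul, pow_succ']
  have h3 := hpow k
  rw [← map_pow, hk, map_zero, LinearMap.zero_apply, eq_comm, smul_eq_zero] at h3
  show x = 0
  rw [hx, eq_zero_of_pow_eq_zero (h3.resolve_right (b.ne_zero l)), zero_smul]

/-- A multiset containing `m` points of an orbit, each of the same multiplicity, has no repetition if its
cardinality is less than `2 * m` and less than `m + 2`. -/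
theorem nodup_of_orbit {α : Type*} [DecidableEq α] {Λ : Multiset α} {τ : α → α}
    (hcount : ∀ x, Λ.count (τ x) = Λ.count x) (x : α) (hx : x ∈ Λ) {m : ℕ}
    (hinj : Set.InjOn (fun j => τ^[j] x) (Set.Iio m)) (h1 : Multiset.card Λ < 2 * m)
    (h2 : Multiset.card Λ < m + 2) : Λ.Nodup := by
  set S := (Finset.range m).image fun j => τ^[j] x with hS
  have hScard : S.card = m := by
    rw [hS, Finset.card_image_of_injOn (by simpa using hinj), Finset.card_range]
  have hiter : ∀ j, Λ.count (τ^[j] x) = Λ.count x := by
    intro j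
    induction j with
    | zero => rfl
    | succ j ih => rw [Function.iterate_succ_apply', hcount, ih]
  have hcS : ∀ y ∈ S, Λ.count y = Λ.count x := by
    intro y hy
    obtain ⟨j, -, rfl⟩ := Finset.mem_image.1 hy
    exact hiter j
  have hx1 : 1 ≤ Λ.count x := Multiset.one_le_count_iff_mem.2 hx
  have hsub : S ⊆ Λ.toFinset := fun y hy => by
    rw [Multiset.mem_toFinset, ← Multiset.one_le_count_iff_mem, hcS y hy]; exact hx1
  have hsum := Multiset.toFinset_sum_count_eq Λ
  rw [← Finset.sum_sdiff hsub, Finset.sum_congr rfl hcS, Finset.sum_const, hScard, smul_eq_mul] at hsum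
  have hc1 : Λ.count x = 1 := by
    by_contra h
    have h3 := Nat.mul_le_mul_left m (show 2 ≤ Λ.count x by omega)
    omega
  rw [hc1, mul_one] at hsum
  rw [Multiset.nodup_iff_count_le_one]
  intro y
  by_cases hy : y ∈ Λ
  · by_cases hyS : y ∈ S
    · rw [hcS y hyS, hc1]
    · have h4 := Finset.single_le_sum (f := fun z => Λ.count z) (fun z _ => Nat.zero_le _)
        (Finset.mem_sdiff.2 ⟨Multiset.mem_toFinset.2 hy, hyS⟩)
      omega
  · rw [Multiset.count_eq_zero.2 hy]; exact Nat.zero_le _

end CfsgLib.Spectra
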