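import Cfsg.Agent.Lib.KnownSimple.Spectra.SimpleRoots
import Cfsg.Agent.Lib.KnownSimple.Unitary.Spectrum3

/-!
Primes commuting with an element of order `p` in `PSU(m, q)`.
-/

set_option autoImplicit false

namespace CfsgLib.Spectra

open Matrix Polynomial Cfsg CfsgLib.Classical CfsgLib.UnitarySpec

variable {F : Type*} [Field F] [Fintype F] {q : ℕ} (hF : Fintype.card F = q ^ 2)

include hF in
/-- Divisors of the order of `SU(k)`. -/
theorem dvd_card_su_of {k r : ℕ} (hk : 2 ≤ k) (hr : r.Prime)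
    (h : r ∣ q ∨ r ∣ q + 1 ∨ ∃ j, 1 ≤ j ∧ j ≤ k ∧ (r : ℤ) ∣ (-(q : ℤ)) ^ j - 1) :
    r ∣ Nat.card (Cfsg.SU k F q) := by
  have hq := two_le_q hF
  have hU := card_su hF (n := k) (by omega)
  obtain ⟨e, he⟩ : ∃ e, k * (k - 1) / 2 = e + 1 := by
    have : 1 ≤ k * (k - 1) / 2 := by
      rw [Nat.one_le_div_iff two_pos]
      exact Nat.mul_le_mul hk (by omega : 1 ≤ k - 1)
    exact ⟨k * (k - 1) / 2 - 1, by omega⟩
  obtain ⟨j', rfl⟩ : ∃ j', k = j' + 2 := ⟨k - 2, by omega⟩
  have hp : ∏ i ∈ Finset.range (j' + 2), (if Even i then q ^ (i + 1) + 1 else q ^ (i + 1) - 1) =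
      (q + 1) * ((q ^ 2 - 1) * ∏ i ∈ Finset.range j', (if Even i then q ^ (i + 3) + 1 else q ^ (i + 3) - 1)) := by
    rw [Finset.prod_range_succ', Finset.prod_range_succ']
    simp [Nat.even_add_one, add_assoc]
    ring
  have hcard : Nat.card (Cfsg.SU (j' + 2) F q) = q ^ (e + 1) *
      ((q ^ 2 - 1) * ∏ i ∈ Finset.range j', (if Even i then q ^ (i + 3) + 1 else q ^ (i + 3) - 1)) := by
    rw [unitaryOrder, he, hp, mul_left_comm] at hU
    exact Nat.eq_of_mul_eq_mul_left (by omega) hU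
  by_cases h1 : r ∣ q + 1
  · rw [hcard, show q ^ 2 - 1 = (q + 1) * (q - 1) by rw [← Nat.sq_sub_sq, one_pow]]
    exact Dvd.dvd.mul_left (Dvd.dvd.mul_right (h1.mul_right _) _) _
  rcases h with h | h | ⟨j, hj1, hj2, hj⟩
  · rw [hcard]
    exact (h.trans (dvd_pow_self q (by omega))).mul_right _
  · exact absurd h h1
  · refine (hr.dvd_mul.1 ?_).resolve_left h1
    rw [hU, unitaryOrder]
    refine Dvd.dvd.mul_left (dvd_trans ?_ (Finset.dvd_prod_of_mem _ (Finset.mem_range.2 (show j - 1 < j' + 2 by omega)))) _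
    rw [show j - 1 + 1 = j by omega, ← Int.natCast_dvd_natCast]
    rcases Nat.even_or_odd j with hje | hjo
    · rw [if_neg (by rw [Nat.not_even_iff_odd, Nat.odd_sub' hj1]; simp [hje]), Nat.cast_sub (Nat.one_le_pow _ _ (by omega))]
      rw [hje.neg_pow] at hj
      push_cast
      exact hj
    · rw [if_pos (by rw [Nat.even_sub' hj1]; simp [hjo])]
      rw [hjo.neg_pow, show -(q : ℤ) ^ j - 1 = -((q : ℤ) ^ j + 1) by ring, dvd_neg] at hj
      push_cast
      exact hj

variable {σ : F ≃+* F} (hσ : ∀ a, σ a = a ^ q)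

include hF hσ in
/-- An element of prime order whose `τ`-orbits are long has distinct eigenvalues. -/
theorem nodup_roots_of_long_orbit {p a : ℕ} (hp : p.Prime) (hq : q = p ^ a) {m r : ℕ} (hm : 4 ≤ m) (hr : r.Prime)
    (hrp : r ≠ p) (hlong : ∀ j, 1 ≤ j → j + 2 ≤ m → ¬ (r : ℤ) ∣ (-(q : ℤ)) ^ j - 1)
    (g : Cfsg.SU m F q) (hg : orderOf g = r) :
    ((g.1 : Matrix (Fin m) (Fin m) F).map (algebraMap F (AlgebraicClosure F))).charpoly.roots.Nodup := by
  classical
  haveI : Fact p.Prime := ⟨hp⟩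
  haveI : CharP F p := charP_of_card_eq_prime_pow (f := a * 2) (by rw [hF, hq, ← pow_mul])
  have hinvol := frobenius_roots hF hσ hp hq g
  set K := AlgebraicClosure F
  haveI : CharP K p := charP_of_injective_algebraMap (algebraMap F K).injective p
  haveI : ExpChar K p := ExpChar.prime hp
  set A := (g.1 : Matrix (Fin m) (Fin m) F) with hA
  set Λ := (A.map (algebraMap F K)).charpoly.roots with hΛ
  have hcard : Multiset.card Λ = m := by
    rw [hΛ, IsAlgClosed.card_roots_eq_natDegree, Matrix.charpoly_natDegree_eq_dim, Fintype.card_fin]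
  have hAr : A ^ r = 1 := by
    rw [hA, ← su_coe_pow, ← hg, pow_orderOf_eq_one]; rfl
  have hroot : ∀ x ∈ Λ, x ^ r = 1 := fun x hx => by
    have h := eval_root_of_aeval_eq_zero (K := K) A (X ^ r - 1)
      (by rw [map_sub, map_pow, aeval_X, map_one, hAr, sub_self]) (isRoot_of_mem_roots hx)
    rwa [map_sub, map_pow, aeval_X, map_one, sub_eq_zero] at h
  obtain ⟨x, hx, hx1⟩ : ∃ x ∈ Λ, x ≠ 1 := by
    by_contra h
    push Not at h
    have hnil := aeval_pow_eq_zero_of_roots (K := K) A (X - 1) fun x hx => by simp [h x hx]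
    rw [map_sub, aeval_X, map_one] at hnil
    haveI : Nonempty (Fin m) := ⟨⟨0, by omega⟩⟩
    haveI : CharP (Matrix (Fin m) (Fin m) F) p :=
      charP_of_injective_algebraMap (algebraMap F (Matrix (Fin m) (Fin m) F)).injective p
    have h2 := pow_eq_zero_of_le (Nat.lt_pow_self hp.one_lt).le hnil
    rw [sub_pow_char_pow_of_commute p _ (Commute.one_right _), one_pow, sub_eq_zero] at h2
    have h4 : orderOf g ∣ p ^ m := orderOf_dvd_of_pow_eq_one (Subtype.ext (Subtype.ext (by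
      show ((g ^ p ^ m).1 : Matrix (Fin m) (Fin m) F) = 1
      rw [su_coe_pow]; exact h2)))
    rw [hg] at h4
    exact hrp ((Nat.prime_dvd_prime_iff_eq hr hp).1 (hr.dvd_of_dvd_pow h4))
  have hx0 : x ≠ 0 := fun h0 => by
    have := hroot x hx
    rw [h0, zero_pow hr.ne_zero] at this
    exact zero_ne_one this
  haveI : Fact r.Prime := ⟨hr⟩
  have hox : orderOf x = r := orderOf_eq_prime (hroot x hx) hx1
  let τ : K → K := fun x => (x ^ q)⁻¹
  have hτinj : Function.Injective τ := fun x y h => (iterateFrobenius K p a).injective (by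
    rw [iterateFrobenius_def, iterateFrobenius_def, ← hq]; exact inv_injective h)
  have hcount : ∀ y, Λ.count (τ y) = Λ.count y := fun y => by
    conv_lhs => rw [← show Λ.map τ = Λ from hinvol]
    exact Multiset.count_map_eq_count' τ Λ hτinj y
  have hiter : ∀ j : ℕ, τ^[j] x = x ^ ((-(q : ℤ)) ^ j) := by
    intro j
    induction j with
    | zero => simp
    | succ j ih =>
      rw [Function.iterate_succ_apply', ih]
      show ((x ^ ((-(q : ℤ)) ^ j)) ^ q)⁻¹ = _
      rw [← zpow_natCast, ← _root_.zpow_mul, ← _root_.zpow_neg, pow_succ, mul_neg]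
  have key : ∀ i j, i < j → j < m - 1 → τ^[i] x ≠ τ^[j] x := by
    intro i j hij hj he
    have h1 : τ^[i] (τ^[j - i] x) = τ^[i] x := by
      rw [← Function.iterate_add_apply, show i + (j - i) = j by omega]; exact he.symm
    have h2 := hτinj.iterate i h1
    rw [hiter] at h2
    refine hlong (j - i) (by omega) (by omega) ?_
    rw [← hox, ← Units.val_mk0 hx0, orderOf_units, orderOf_dvd_iff_zpow_eq_one]
    refine Units.ext ?_
    rw [Units.val_zpow_eq_zpow_val, Units.val_mk0, zpow_sub₀ hx0, zpow_one, h2, div_self hx0, Units.val_one]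
  refine nodup_of_orbit hcount x hx (m := m - 1) ?_ (by rw [hcard]; omega) (by rw [hcard]; omega)
  intro i hi j hj hij
  simp only [Set.mem_Iio] at hi hj
  rcases lt_trichotomy i j with h | h | h
  · exact absurd hij (key i j h hj)
  · exact h
  · exact absurd hij.symm (key j i h hi)

include hF hσ in
theorem psu_commute_prime_dvd {p a : ℕ} (hp : p.Prime) (hq : q = p ^ a) {m : ℕ} (hm : 4 ≤ m)
    (x y : Cfsg.PSU m F q) (hx : orderOf x = p) (hxy : Commute x y) {r : ℕ} (hr : r.Prime) (hry : r ∣ orderOf y) :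
    r ∣ Nat.card (Cfsg.SU (m - 2) F q) := by
  classical
  haveI : Fact p.Prime := ⟨hp⟩
  haveI : Fact r.Prime := ⟨hr⟩
  haveI : CharP F p := charP_of_card_eq_prime_pow (f := a * 2) (by rw [hF, hq, ← pow_mul])
  have ha : a ≠ 0 := fun h => by have := two_le_q hF; rw [hq, h, pow_zero] at this; omega
  by_contra hU
  have hno : ¬ (r ∣ q ∨ r ∣ q + 1 ∨ ∃ j, 1 ≤ j ∧ j ≤ m - 2 ∧ (r : ℤ) ∣ (-(q : ℤ)) ^ j - 1) :=
    fun h => hU (dvd_card_su_of hF (by omega) hr h)
  simp only [not_or, not_exists, not_and] at hno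
  obtain ⟨hrq, hrq1, hlong⟩ := hno
  have hrp : r ≠ p := fun h => hrq (h ▸ hq ▸ dvd_pow_self p ha)
  obtain ⟨A, rfl⟩ := QuotientGroup.mk'_surjective _ x
  obtain ⟨B₀, rfl⟩ := QuotientGroup.mk'_surjective _ y
  have hrB : r ∣ orderOf B₀ := hry.trans (orderOf_map_dvd _ B₀)
  set B := B₀ ^ (orderOf B₀ / r) with hBdef
  have hB : orderOf B = r := orderOf_pow_orderOf_div (orderOf_pos B₀).ne' hrB
  have hcc : psuMk (A * B * A⁻¹ * B⁻¹) ^ 1 = 1 := by
    rw [pow_one, map_mul, map_mul, map_mul, map_inv, map_inv, hBdef, map_pow,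
      (show Commute (psuMk A) (psuMk B₀) from hxy).pow_right (orderOf B₀ / r) |>.eq]
    group
  obtain ⟨c, hc, -, hcq⟩ := exists_of_psuMk_pow_eq_one hF (by omega) hσ _ 1 hcc
  rw [pow_one] at hc
  set Am := (A.1 : Matrix (Fin m) (Fin m) F) with hAm
  set Bm := (B.1 : Matrix (Fin m) (Fin m) F) with hBm
  have hAB : ((A * B * A⁻¹).1 : Matrix (Fin m) (Fin m) F) = c • Bm := by
    have h : (A * B * A⁻¹ * B⁻¹) * B = A * B * A⁻¹ := by group
    rw [← h]
    show ((A * B * A⁻¹ * B⁻¹).1 : Matrix (Fin m) (Fin m) F) * Bm = _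
    rw [hc, smul_mul_assoc, one_mul]
  have hBr : Bm ^ r = 1 := by rw [hBm, ← su_coe_pow, ← hB, pow_orderOf_eq_one]; rfl
  haveI : Nonempty (Fin m) := ⟨⟨0, by omega⟩⟩
  have hc1 : c = 1 := by
    have h1 : (c • Bm) ^ r = 1 := by
      rw [← hAB, ← su_coe_pow, conj_pow, ← hB, pow_orderOf_eq_one, mul_one, mul_inv_cancel]; rfl
    rw [_root_.smul_pow, hBr] at h1
    have h2 : c ^ r = 1 := by simpa using congrFun (congrFun h1 ⟨0, by omega⟩) ⟨0, by omega⟩
    have h3 : Nat.gcd r (q + 1) = 1 := (hr.coprime_iff_not_dvd).2 hrq1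
    have h4 := pow_gcd_eq_one.2 ⟨h2, hcq⟩
    rwa [h3, pow_one] at h4
  have hcomm : Commute Bm Am := by
    have h : ((A * B * A⁻¹).1 : Matrix (Fin m) (Fin m) F) * Am = Bm * Am := by rw [hAB, hc1, one_smul]
    have h' : A * B * A⁻¹ * A = A * B := by group
    rw [show ((A * B * A⁻¹).1 : Matrix (Fin m) (Fin m) F) * Am = ((A * B * A⁻¹ * A).1 : Matrix (Fin m) (Fin m) F) from rfl,
      h'] at h
    exact h.symm
  obtain ⟨z, hz, -, hzq⟩ := exists_of_psuMk_pow_eq_one hF (by omega) hσ A p (by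
    show (QuotientGroup.mk' _ A) ^ p = 1
    rw [← hx, pow_orderOf_eq_one])
  obtain ⟨w, hw⟩ := (bijective_frobenius F p).2 z
  rw [frobenius_def] at hw
  have hz0 : z ≠ 0 := fun h => by rw [h, zero_pow (by omega)] at hzq; exact zero_ne_one hzq
  have hw0 : w ≠ 0 := fun h => hz0 (by rw [← hw, h, zero_pow hp.ne_zero])
  haveI : CharP (Matrix (Fin m) (Fin m) F) p :=
    charP_of_injective_algebraMap (algebraMap F (Matrix (Fin m) (Fin m) F)).injective p
  have hN : (w⁻¹ • Am - 1) ^ p = 0 := by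
    rw [sub_pow_char_of_commute p (Commute.one_right _), one_pow, _root_.smul_pow, hz, smul_smul, ← hw, ← mul_pow,
      inv_mul_cancel₀ hw0, one_pow, one_smul, sub_self]
  have hN0 := eq_zero_of_commute_of_nodup
    (nodup_roots_of_long_orbit hF hσ hp hq hm hr hrp (fun j h1 h2 => hlong j h1 (by omega)) B hB)
    ((hcomm.smul_right w⁻¹).sub_right (Commute.one_right _)) ⟨p, hN⟩
  have hAs : Am = w • 1 := by
    rw [← sub_eq_zero.1 hN0, smul_smul, mul_inv_cancel₀ hw0, one_smul]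
  have h1 : QuotientGroup.mk' (Subgroup.center (Cfsg.SU m F q)) A = 1 := by
    have h := psuMk_pow_eq_one_of A 1 (c := w) (by rw [pow_one]; exact hAs)
    rwa [pow_one] at h
  rw [h1, orderOf_one] at hx
  exact hp.ne_one hx.symm

end CfsgLib.Spectra
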