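import Cfsg.Agent.Lib.KnownSimple.Unitary.Spectrum3
import Cfsg.Agent.Lib.KnownSimple.Spectra.SimpleRoots
import Cfsg.Agent.Lib.PrimeGraphPSL.HalfTorus

/-!
Elements of order `q ^ (n / 2) + (-1) ^ (n / 2)` in `PSU(n, q)`.
-/

set_option autoImplicit false

namespace CfsgLib.Spectra

open Matrix Polynomial Cfsg CfsgLib.Classical CfsgLib.UnitarySpec

/-- `|(-q) ^ m + 1|`. -/
def halfN (q m : ℕ) : ℕ := ((-(q : ℤ)) ^ m + 1).natAbs

theorem halfN_eq {q m : ℕ} (hq : 1 ≤ q) : halfN q m = if Even m then q ^ m + 1 else q ^ m - 1 := by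
  have h1 : 1 ≤ q ^ m := Nat.one_le_pow _ _ hq
  unfold halfN
  split_ifs with h
  · rw [h.neg_pow, show ((q : ℤ) ^ m + 1) = ((q ^ m + 1 : ℕ) : ℤ) by push_cast; ring, Int.natAbs_natCast]
  · rw [(Nat.not_even_iff_odd.1 h).neg_pow, show (-(q : ℤ) ^ m + 1) = -((q ^ m - 1 : ℕ) : ℤ) by
      rw [Nat.cast_sub h1]; push_cast; ring, Int.natAbs_neg, Int.natAbs_natCast]

theorem altSum_two_mul (q m : ℕ) : altSum q (2 * m) = altSum q m * ((-(q : ℤ)) ^ m + 1) := by
  unfold altSum
  rw [two_mul, Finset.sum_range_add, mul_add, mul_one, add_comm, Finset.sum_mul]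
  congr 1
  exact Finset.sum_congr rfl fun j _ => by rw [pow_add, mul_comm]

theorem gcd_dvd_half_iff {q m : ℕ} (hm : m ≠ 0) :
    Nat.gcd (2 * m) (q + 1) ∣ (altSum q m).natAbs ↔ padicValNat 2 (q + 1) < padicValNat 2 (2 * m) := by
  rw [← CfsgLib.PrimeGraphPSL.gcd_two_mul_dvd_iff hm (Nat.succ_ne_zero q)]
  have h1 : (Nat.gcd (2 * m) (q + 1) : ℤ) ∣ altSum q m - m :=
    (show (Nat.gcd (2 * m) (q + 1) : ℤ) ∣ (q : ℤ) + 1 by exact_mod_cast Nat.gcd_dvd_right (2 * m) (q + 1)).trans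
      (altSum_dvd_sub q m)
  rw [← Int.natCast_dvd, ← Int.natCast_dvd_natCast (n := m)]
  exact ⟨fun h => by simpa using h.sub h1, fun h => by simpa using h.add h1⟩

theorem exists_long_prime {q m : ℕ} (hm : 2 ≤ m) (hq : Odd q) (hq2 : 2 ≤ q) :
    ∃ r : ℕ, r.Prime ∧ r ∣ halfN q m ∧ ¬ r ∣ q ∧
      ∀ j, 1 ≤ j → j < 2 * m → ¬ (r : ℤ) ∣ (-(q : ℤ)) ^ j - 1 := by
  have hcast : ∀ (r j : ℕ), (r : ℤ) ∣ (q : ℤ) ^ j - 1 ↔ r ∣ q ^ j - 1 := fun r j => by
    rw [← Int.natCast_dvd_natCast, Nat.cast_sub (Nat.one_le_pow _ _ (by omega))]; push_cast; rfl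
  rw [halfN_eq (by omega)]
  rcases Nat.even_or_odd m with hme | hmo
  · rw [if_pos hme]
    obtain ⟨r, hr, hrn, hmin⟩ := CfsgLib.PrimeGraphPSL.exists_primitive (n := 2 * m) (by omega) hq hq2
    have hrN : r ∣ q ^ m + 1 := by
      have e : q ^ (2 * m) - 1 = (q ^ m + 1) * (q ^ m - 1) := by
        rw [← Nat.sq_sub_sq, one_pow, ← pow_mul, mul_comm]
      exact (hr.dvd_mul.1 (e ▸ hrn)).resolve_right (hmin m (by omega) (by omega))
    have hrq : ¬ r ∣ q := fun h =>
      hr.ne_one (Nat.dvd_one.1 ((Nat.dvd_add_right (h.trans (dvd_pow_self q (by omega : m ≠ 0)))).1 hrN))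
    refine ⟨r, hr, hrN, hrq, fun j hj1 hj2 hdvd => ?_⟩
    rcases Nat.even_or_odd j with hje | hjo
    · rw [hje.neg_pow, hcast] at hdvd
      exact hmin j hj1 hj2 hdvd
    · rw [hjo.neg_pow] at hdvd
      have h2 : r ∣ q ^ (2 * j) - 1 := by
        rw [← hcast, show (q : ℤ) ^ (2 * j) - 1 = -(-(q : ℤ) ^ j - 1) * ((q : ℤ) ^ j - 1) by ring]
        exact ((dvd_neg).2 hdvd).mul_right _
      rw [← CfsgLib.PrimeGraphPSL.orderOf_natCast_dvd_iff (by omega)] at h2 hrn
      have hord : orderOf (q : ZMod r) = 2 * m := by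
        rcases lt_or_eq_of_le (Nat.le_of_dvd (by omega) hrn) with h | h
        · exact absurd ((CfsgLib.PrimeGraphPSL.orderOf_natCast_dvd_iff (by omega)).1 dvd_rfl)
            (hmin _ (Nat.pos_of_dvd_of_pos hrn (by omega)) h)
        · exact h
      rw [hord] at h2
      have h3 : m ∣ j := (Nat.mul_dvd_mul_iff_left (by norm_num : 0 < 2)).1 h2
      exact absurd hme (Nat.not_even_iff_odd.2 (Odd.of_dvd_nat hjo h3))
  · rw [if_neg (Nat.not_even_iff_odd.2 hmo)]
    have hm3 : 3 ≤ m := by obtain ⟨k, rfl⟩ := hmo; omega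
    have hexc : (m, q) ∉ CfsgLib.Recognition.Zsigmondy.exceptions := by
      intro h
      simp only [CfsgLib.Recognition.Zsigmondy.exceptions, List.mem_cons, List.not_mem_nil, or_false,
        Prod.mk.injEq] at h
      rcases h with ⟨rfl, -⟩ | ⟨rfl, -⟩ | ⟨rfl, -⟩ | ⟨rfl, -⟩ | ⟨rfl, -⟩ | ⟨rfl, -⟩ | ⟨rfl, -⟩ | ⟨rfl, -⟩ <;>
        exact absurd hmo (by decide)
    obtain ⟨r, hr, hrn, hmin, -⟩ := CfsgLib.Recognition.Zsigmondy.exists_large_primitive hm3 hq2 hexc
    have hr2 : r ≠ 2 := by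
      rintro rfl
      obtain ⟨k, rfl⟩ := hq
      exact hmin 1 le_rfl (by omega) ⟨k, by rw [pow_one]; omega⟩
    have hord : orderOf (q : ZMod r) = m := by
      have h1 := (CfsgLib.PrimeGraphPSL.orderOf_natCast_dvd_iff (r := r) (by omega : 1 ≤ q)).2 hrn
      rcases lt_or_eq_of_le (Nat.le_of_dvd (by omega) h1) with h | h
      · exact absurd ((CfsgLib.PrimeGraphPSL.orderOf_natCast_dvd_iff (by omega)).1 dvd_rfl)
          (hmin _ (Nat.pos_of_dvd_of_pos h1 (by omega)) h)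
      · exact h
    have hrq : ¬ r ∣ q := fun h => by
      have h1 := Nat.dvd_sub (h.trans (dvd_pow_self q (by omega : m ≠ 0))) hrn
      rw [Nat.sub_sub_self (Nat.one_le_pow _ _ (by omega))] at h1
      exact hr.ne_one (Nat.dvd_one.1 h1)
    refine ⟨r, hr, hrn, hrq, fun j hj1 hj2 hdvd => ?_⟩
    have h2 : r ∣ q ^ (2 * j) - 1 := by
      rw [← hcast, show (q : ℤ) ^ (2 * j) - 1 = ((-(q : ℤ)) ^ j - 1) * ((-(q : ℤ)) ^ j + 1) by
        rw [pow_mul, ← neg_sq (q : ℤ), ← pow_mul]; ring]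
      exact hdvd.mul_right _
    rw [← CfsgLib.PrimeGraphPSL.orderOf_natCast_dvd_iff (by omega), hord] at h2
    have h3 : m ∣ j := (Nat.coprime_two_right.2 hmo).dvd_of_dvd_mul_left h2
    obtain ⟨c, rfl⟩ := h3
    have hc : c = 1 := by
      have : c < 2 := by by_contra hc; have := Nat.mul_le_mul_left m (not_lt.1 hc); omega
      rcases c with _ | _ | c <;> omega
    subst hc
    rw [mul_one, hmo.neg_pow] at hdvd
    have h4 : (r : ℤ) ∣ 2 := by
      have := dvd_add hdvd ((hcast r m).2 hrn)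
      rw [show -(q : ℤ) ^ m - 1 + ((q : ℤ) ^ m - 1) = -2 by ring, dvd_neg] at this
      exact this
    exact hr2 ((Nat.prime_dvd_prime_iff_eq hr Nat.prime_two).1 (by exact_mod_cast h4))

variable {F : Type*} [Field F] [Fintype F] {q : ℕ} (hF : Fintype.card F = q ^ 2) {σ : F ≃+* F}
  (hσ : ∀ a, σ a = a ^ q)

include hF hσ in
theorem half_torus_backward {m : ℕ} (hm : 2 ≤ m) (h : Nat.gcd (2 * m) (q + 1) ∣ (altSum q m).natAbs) :
    ∃ g : Cfsg.PSU (2 * m) F q, orderOf g = halfN q m := by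
  have hq := two_le_q hF
  obtain ⟨u, hu⟩ := exists_torus_even hF hσ (m := m) (n := 2 * m) (by omega) rfl
  set d := Nat.gcd (2 * m) (q + 1)
  have hu' : torusN q (2 * m) ∣ orderOf (psuMk u) := by
    obtain ⟨c, hc, hcn, hcq⟩ := exists_of_psuMk_pow_eq_one hF (by omega) hσ u _ (pow_orderOf_eq_one (psuMk u))
    have hcg : c ^ d = 1 := pow_gcd_eq_one.2 ⟨hcn, hcq⟩
    have h1 : u ^ (orderOf (psuMk u) * d) = 1 := by
      refine Subtype.ext (Subtype.ext ?_)
      show ((u ^ _).1 : Matrix (Fin (2 * m)) (Fin (2 * m)) F) = 1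
      rw [su_coe_pow, pow_mul, hc, _root_.smul_pow, one_pow, hcg, one_smul]
    have h2 := orderOf_dvd_of_pow_eq_one h1
    rw [hu, ← torusN_mul] at h2
    exact Nat.dvd_of_mul_dvd_mul_right (Nat.gcd_pos_of_pos_left _ (by omega)) h2
  have hN : halfN q m ∣ torusN q (2 * m) := by
    obtain ⟨S, hS⟩ := h
    refine Nat.dvd_of_mul_dvd_mul_right (Nat.gcd_pos_of_pos_left (q + 1) (by omega : 0 < 2 * m)) ?_
    rw [torusN_mul, altSum_two_mul, Int.natAbs_mul, hS, mul_comm (halfN q m)]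
    exact Nat.mul_dvd_mul_right (dvd_mul_right _ _) _
  exact ⟨_, orderOf_pow_orderOf_div (orderOf_pos (psuMk u)).ne' (hN.trans hu')⟩

include hF hσ in
theorem half_torus_forward {p a : ℕ} (hp : p.Prime) (hq : q = p ^ a) (hodd : Odd q) {m : ℕ} (hm : 2 ≤ m)
    (g : Cfsg.SU (2 * m) F q) (hg : orderOf (psuMk g) = halfN q m) :
    Nat.gcd (2 * m) (q + 1) ∣ (altSum q m).natAbs := by
  classical
  haveI : Fact p.Prime := ⟨hp⟩
  haveI : CharP F p := charP_of_card_eq_prime_pow (f := a * 2) (by rw [hF, hq, ← pow_mul])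
  have hq2 := two_le_q hF
  obtain ⟨r, hr, hrN, hrq, hlong⟩ := exists_long_prime hm hodd hq2
  have hrp : r ≠ p := fun h => by
    have ha : a ≠ 0 := fun h0 => by rw [hq, h0, pow_zero] at hq2; omega
    exact hrq (h ▸ hq ▸ dvd_pow_self p ha)
  have hrg : r ∣ orderOf g := (hg ▸ hrN).trans (orderOf_map_dvd psuMk g)
  obtain ⟨k, hk⟩ := hrg
  have hk0 : k ≠ 0 := fun h => by rw [h, mul_zero] at hk; exact (orderOf_pos g).ne' hk
  have hinvol := frobenius_roots hF hσ hp hq g
  set K := AlgebraicClosure F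
  haveI : CharP K p := charP_of_injective_algebraMap (algebraMap F K).injective p
  haveI : ExpChar K p := ExpChar.prime hp
  set A := (g.1 : Matrix (Fin (2 * m)) (Fin (2 * m)) F) with hA
  set Λ := (A.map (algebraMap F K)).charpoly.roots with hΛ
  have hcard : Multiset.card Λ = 2 * m := by
    rw [hΛ, IsAlgClosed.card_roots_eq_natDegree, Matrix.charpoly_natDegree_eq_dim, Fintype.card_fin]
  have hord : A ^ orderOf g = 1 := by rw [hA, ← su_coe_pow, pow_orderOf_eq_one]; rfl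
  have hroot : ∀ x ∈ Λ, x ^ orderOf g = 1 := fun x hx => by
    have h := eval_root_of_aeval_eq_zero (K := K) A (X ^ orderOf g - 1)
      (by rw [map_sub, map_pow, aeval_X, map_one, hord, sub_self]) (isRoot_of_mem_roots hx)
    rwa [map_sub, map_pow, aeval_X, map_one, sub_eq_zero] at h
  haveI : Nonempty (Fin (2 * m)) := ⟨⟨0, by omega⟩⟩
  obtain ⟨x, hx, hxk⟩ : ∃ x ∈ Λ, x ^ k ≠ 1 := by
    by_contra h
    push Not at h
    have hnil := aeval_pow_eq_zero_of_roots (K := K) A (X ^ k - 1) fun x hx => by simp [h x hx]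
    rw [map_sub, map_pow, aeval_X, map_one] at hnil
    haveI : CharP (Matrix (Fin (2 * m)) (Fin (2 * m)) F) p :=
      charP_of_injective_algebraMap (algebraMap F (Matrix (Fin (2 * m)) (Fin (2 * m)) F)).injective p
    have h2 := pow_eq_zero_of_le (Nat.lt_pow_self hp.one_lt).le hnil
    rw [sub_pow_char_pow_of_commute p _ (Commute.one_right _), one_pow, sub_eq_zero, ← pow_mul] at h2
    have h4 : orderOf g ∣ k * p ^ (2 * m) := orderOf_dvd_of_pow_eq_one (Subtype.ext (Subtype.ext (by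
      show ((g ^ (k * p ^ (2 * m))).1 : Matrix (Fin (2 * m)) (Fin (2 * m)) F) = 1
      rw [su_coe_pow]; exact h2)))
    rw [hk, mul_comm r k] at h4
    exact hrp ((Nat.prime_dvd_prime_iff_eq hr hp).1
      (hr.dvd_of_dvd_pow (Nat.dvd_of_mul_dvd_mul_left (Nat.pos_of_ne_zero hk0) h4)))
  have hx0 : x ≠ 0 := fun h0 => by
    have := hroot x hx
    rw [h0, zero_pow (orderOf_pos g).ne'] at this
    exact zero_ne_one this
  haveI : Fact r.Prime := ⟨hr⟩
  have hox : orderOf (x ^ k) = r := orderOf_eq_prime (by rw [← pow_mul, mul_comm, ← hk, hroot x hx]) hxk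
  let τ : K → K := fun x => (x ^ q)⁻¹
  have hτΛ : Λ.map τ = Λ := hinvol
  have hτinj : Function.Injective τ := fun x y h => (iterateFrobenius K p a).injective (by
    rw [iterateFrobenius_def, iterateFrobenius_def, ← hq]; exact inv_injective h)
  have hcount : ∀ y, Λ.count (τ y) = Λ.count y := fun y => by
    conv_lhs => rw [← hτΛ]
    exact Multiset.count_map_eq_count' τ Λ hτinj y
  have hiter : ∀ j : ℕ, τ^[j] x = x ^ ((-(q : ℤ)) ^ j) := by
    intro j
    induction j with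
    | zero => simp
    | succ j ih =>
      rw [Function.iterate_succ_apply', ih]
      show ((x ^ ((-(q : ℤ)) ^ j)) ^ q)⁻¹ = _
      rw [← zpow_natCast, ← _root_.zpow_mul, ← _root_.zpow_neg, pow_succ, mul_neg]
  have key : ∀ i j, i < j → j < 2 * m → τ^[i] x ≠ τ^[j] x := by
    intro i j hij hj he
    have h1 : τ^[i] (τ^[j - i] x) = τ^[i] x := by
      rw [← Function.iterate_add_apply, show i + (j - i) = j by omega]; exact he.symm
    have h2 := hτinj.iterate i h1
    rw [hiter] at h2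
    refine hlong (j - i) (by omega) (by omega) ?_
    rw [← hox, ← Units.val_mk0 hx0, ← Units.val_pow_eq_pow_val, orderOf_units, orderOf_dvd_iff_zpow_eq_one]
    refine Units.ext ?_
    rw [Units.val_zpow_eq_zpow_val, Units.val_pow_eq_pow_val, Units.val_mk0, ← zpow_natCast x k,
      ← _root_.zpow_mul, mul_comm, _root_.zpow_mul, zpow_sub₀ hx0, zpow_one, h2, div_self hx0, _root_.one_zpow,
      Units.val_one]
  have hinj : Set.InjOn (fun j => τ^[j] x) (Set.Iio (2 * m)) := by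
    intro i hi j hj hij
    simp only [Set.mem_Iio] at hi hj
    rcases lt_trichotomy i j with h | h | h
    · exact absurd hij (key i j h hj)
    · exact h
    · exact absurd hij.symm (key j i h hi)
  have hnd : Λ.Nodup := nodup_of_orbit hcount x hx hinj (by omega) (by omega)
  have hiterΛ : ∀ j, τ^[j] x ∈ Λ := by
    intro j
    induction j with
    | zero => exact hx
    | succ j ih => rw [Function.iterate_succ_apply']; exact hτΛ ▸ Multiset.mem_map_of_mem τ ih
  set S := (Finset.range (2 * m)).image fun j => τ^[j] x with hSdef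
  have hScard : S.card = 2 * m := by
    rw [hSdef, Finset.card_image_of_injOn (by simpa using hinj), Finset.card_range]
  have hSΛ : S.val = Λ := by
    refine Multiset.eq_of_le_of_card_le ((Multiset.le_iff_subset S.nodup).2 fun y hy => ?_) ?_
    · obtain ⟨j, -, rfl⟩ := Finset.mem_image.1 (show y ∈ S from hy)
      exact hiterΛ j
    · rw [hcard]; exact hScard.ge
  have hprod : ∏ j ∈ Finset.range (2 * m), τ^[j] x = 1 := by
    rw [← Finset.prod_image (f := fun y => y) (g := fun j => τ^[j] x) (by simpa using hinj), ← hSdef,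
      Finset.prod_eq_multiset_prod, Multiset.map_id', hSΛ, hΛ, ← det_eq_prod_roots_charpoly]
    show ((algebraMap F K).mapMatrix A).det = 1
    rw [← RingHom.map_det, show A.det = 1 from g.1.2, map_one]
  have hT : x ^ (altSum q (2 * m)) = 1 := by
    rw [← hprod]
    have : ∀ s : Finset ℕ, x ^ (∑ j ∈ s, (-(q : ℤ)) ^ j) = ∏ j ∈ s, τ^[j] x := by
      intro s
      induction s using Finset.induction_on with
      | empty => simp
      | insert b s hb ih => rw [Finset.sum_insert hb, Finset.prod_insert hb, zpow_add₀ hx0, ih, hiter]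
    exact this _
  have hTn : x ^ (altSum q (2 * m)).natAbs = 1 := by
    rcases Int.natAbs_eq (altSum q (2 * m)) with h | h
    · rw [h, zpow_natCast] at hT; exact hT
    · rw [h, _root_.zpow_neg, zpow_natCast, inv_eq_one] at hT; exact hT
  set T' := torusN q (2 * m) with hT'
  obtain ⟨e, he⟩ : Nat.gcd (2 * m) (q + 1) ∣ q + 1 := Nat.gcd_dvd_right _ _
  have hfix : τ (x ^ T') = x ^ T' := by
    have h1 : (x ^ T') ^ (q + 1) = 1 := by
      rw [he, ← pow_mul, ← mul_assoc, hT', torusN_mul, pow_mul, hTn, one_pow]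
    show ((x ^ T') ^ q)⁻¹ = x ^ T'
    exact inv_eq_of_mul_eq_one_right (by rw [← pow_succ]; exact h1)
  obtain ⟨U, hU⟩ := mem_range_of_pow_card (x ^ T') (by
    have h2 : τ (τ (x ^ T')) = (x ^ T') ^ Fintype.card F := by
      show ((((x ^ T') ^ q)⁻¹) ^ q)⁻¹ = _
      rw [inv_pow, inv_inv, ← pow_mul, hF, sq]
    rw [← h2, hfix, hfix])
  have hall : ∀ y ∈ Λ, y ^ T' = algebraMap F K U := by
    intro y hy
    rw [← hSΛ] at hy
    obtain ⟨j, -, rfl⟩ := Finset.mem_image.1 (show y ∈ S from hy)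
    rw [hU]
    clear hy
    induction j with
    | zero => rfl
    | succ j ih =>
      rw [Function.iterate_succ_apply']
      show ((τ^[j] x ^ q)⁻¹) ^ T' = x ^ T'
      rw [inv_pow, pow_right_comm, ih]
      exact hfix
  have hT'0 : T' ≠ 0 := fun h => by
    have := torusN_mul q (2 * m)
    rw [← hT', h, zero_mul] at this
    exact altSum_ne_zero hq2 (by omega : 1 ≤ 2 * m) (Int.natAbs_eq_zero.1 this.symm)
  have hdvd : halfN q m ∣ T' := hg ▸ orderOf_dvd_of_pow_eq_one
    (psuMk_pow_eq_one_of g T' (pow_eq_scalar_of_nodup A hT'0 U hnd hall))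
  have h3 := Nat.mul_dvd_mul_right hdvd (Nat.gcd (2 * m) (q + 1))
  rw [hT', torusN_mul, altSum_two_mul, Int.natAbs_mul, mul_comm (altSum q m).natAbs] at h3
  refine Nat.dvd_of_mul_dvd_mul_left ?_ h3
  exact Nat.pos_of_ne_zero fun h => by rw [h] at hg; exact (orderOf_pos _).ne' hg

end CfsgLib.Spectra
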